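import Cfsg.Agent.Lib.Char.ExtendCriteria
import Cfsg.Agent.Lib.Char.Gallagher
import Cfsg.Agent.Lib.Char.Clifford
import Cfsg.Agent.Lib.Char.Counting
import Cfsg.Agent.Lib.Char.Induction
import Mathlib.GroupTheory.Perm.Cycle.Type

/-!
If all characters nontrivial on a perfect normal subgroup `X` vanish at the `p`-element `g`, and
`X g` consists of conjugates of `g`, then no nontrivial `g`-invariant character of `X` has degree
prime to `p`; hence `p` does not divide the order of `X` and `g` fixes no nontrivial element.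
-/

set_option autoImplicit false

namespace CfsgLib.Char.OneNonzero

open scoped ComplexConjugate
open Representation Cfsg Subgroup CfsgLib.Char

universe u

variable {G : Type u} [Group G] [Finite G] (X : Subgroup G) [X.Normal]

/-- A character of degree zero is zero. -/
theorem eq_zero_of_degree_zero {H : Type u} [Group H] {F : H → ℂ} (h : IsCharacter H F)
    (h1 : F 1 = 0) : F = 0 := by
  obtain ⟨n, σ, rfl⟩ := h
  rw [Representation.char_one, Module.finrank_fin_fun, Nat.cast_eq_zero] at h1
  subst h1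
  funext x
  show LinearMap.trace ℂ (Fin 0 → ℂ) (σ x) = 0
  rw [Subsingleton.elim (σ x) 0, map_zero]

theorem false_of_invariant (hperf : commutator X = ⊤) (g : G) {p e : ℕ} (hp : p.Prime)
    (hg : g ^ p ^ e = 1) (hconj : ∀ x ∈ X, IsConj g (x * g))
    (hvan : ∀ ψ : IrrCharacter G, (∃ x ∈ X, (ψ : G → ℂ) x ≠ (ψ : G → ℂ) 1) → (ψ : G → ℂ) g = 0)
    (θ : IrrCharacter X) (hθ1 : (θ : X → ℂ) ≠ fun _ => 1)
    (hinv : conjFun X (θ : X → ℂ) g = (θ : X → ℂ)) {d : ℕ} (hd : (θ : X → ℂ) 1 = d)
    (hpd : ¬ p ∣ d) : False := by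
  classical
  haveI : Fact p.Prime := ⟨hp⟩
  haveI := Fintype.ofFinite G
  set H : Subgroup G := X ⊔ zpowers g with hH
  haveI := Fintype.ofFinite H
  have hXH : X ≤ H := le_sup_left
  have hgH : g ∈ H := le_sup_right (a := X) (mem_zpowers g)
  let N : Subgroup H := X.subgroupOf H
  haveI := Fintype.ofFinite N
  have hidx : N.index ∣ p ^ e := by
    show X.relIndex H ∣ p ^ e
    rw [hH, relIndex_sup_left]
    exact (relIndex_dvd_card (H := X) (K := zpowers g)).trans
      ((Nat.card_zpowers g).symm ▸ orderOf_dvd_of_pow_eq_one hg)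
  let ev : N ≃* X := subgroupOfEquivOfLe hXH
  obtain ⟨d', ρ, hρ, hρθ⟩ :=
    isIrrCharacter_comp_surjective θ.2 ev.toMonoidHom ev.surjective
  have hρθ' : ∀ n : N, ρ.character n = (θ : X → ℂ) (ev n) := fun n => congrFun hρθ n
  have hdd : d' = d := by
    have h := hρθ' 1
    rw [Representation.char_one, Module.finrank_fin_fun, map_one, hd] at h
    exact_mod_cast h
  subst hdd
  have hcop : Nat.Coprime N.index d' :=
    Nat.Coprime.coprime_dvd_left hidx (((Nat.Prime.coprime_iff_not_dvd hp).2 hpd).pow_left e)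
  have hdet : detHom ρ = 1 := by
    refine MonoidHom.ext fun n => ?_
    let f : X →* ℂˣ := (detHom ρ).comp ev.symm.toMonoidHom
    have hf : f (ev n) = 1 := Abelianization.commutator_subset_ker f
      ((eq_top_iff.1 hperf) (mem_top (ev n)))
    simpa [f] using hf
  have hinvH : IsInvariant N ρ := by
    intro h n
    have hh : (h : G) ∈ inertia X (θ : X → ℂ) := by
      refine (sup_le (le_inertia X (isClassFunction_irr θ)) ?_) h.2
      rw [zpowers_le]
      exact hinv
    have := congrFun ((mem_inertia X _ _).1 hh) (ev n)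
    rw [hρθ', hρθ']
    exact (congrArg (θ : X → ℂ) (Subtype.ext rfl)).trans this
  obtain ⟨σ₁, hσ₁⟩ := extends_of_det_extends N ρ hinvH hcop (1 : H →* ℂˣ) fun n => by
    rw [← detHom_coe, hdet]; simp
  obtain ⟨σ, hσ, hσdet⟩ := exists_extension_with_det N ρ hcop hσ₁ (1 : H →* ℂˣ)
    (by rw [hdet]; exact MonoidHom.one_comp _)
  set η : H → ℂ := σ.character with hη
  have hηirr : IsIrrCharacter H η := isIrrCharacter_of_extends N ρ hσ
  have hηN : (fun n : N => η n) = ρ.character :=
    funext fun n => congrArg (LinearMap.trace ℂ _) (hσ n)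
  let g₀ : H := ⟨g, hgH⟩
  set f : G → ℂ := indFun H η with hf
  set S : ℂ := ∑ n : N, f (((n : H) : G) * g) * conj (η ((n : H) * g₀)) with hS
  have hNne : (Nat.card N : ℂ) ≠ 0 := Nat.cast_ne_zero.2 Nat.card_pos.ne'
  -- the sum vanishes
  have hS0 : S = 0 := by
    haveI := Fintype.ofFinite (IrrCharacter G)
    haveI := Fintype.ofFinite X
    have hη0 : ∑ n : N, η ((n : H) * g₀) = 0 := by
      rcases cosetAvg_irr N ⟨η, hηirr⟩ with h | h
      · exfalso
        have hc : ∀ n : N, η n = η 1 := fun n => by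
          have h1 := congrFun h (n : H)
          have h2 := congrFun h 1
          rw [show (n : H) = (n : H) * 1 from (mul_one _).symm, cosetAvg_mul_left, h2] at h1
          rw [mul_one] at h1
          exact h1.symm
        have hθc : ∀ x : X, (θ : X → ℂ) x = (θ : X → ℂ) 1 := fun x => by
          have a1 := (hρθ' (ev.symm x)).symm.trans ((congrFun hηN (ev.symm x)).symm.trans (hc _))
          have a2 := (hρθ' 1).symm.trans ((congrFun hηN 1).symm.trans (hc _))
          rw [MulEquiv.apply_symm_apply] at a1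
          rw [map_one] at a2
          exact a1.trans a2.symm
        have h0 := classInner_irr_ne (χ := θ) (ψ := ⟨fun _ => 1, isIrrCharacter_one⟩)
          fun e => hθ1 (congrArg Subtype.val e)
        simp only [classInner, hθc, map_one, mul_one, Finset.sum_const, Finset.card_univ,
          nsmul_eq_mul, ← Nat.card_eq_fintype_card] at h0
        rw [inv_mul_cancel_left₀ (by exact_mod_cast Nat.card_pos.ne')] at h0
        exact irr_one_ne_zero θ h0
      · have := congrFun h g₀
        simp only [cosetAvg, Pi.zero_apply, mul_eq_zero, inv_eq_zero] at this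
        exact this.resolve_left hNne
    have hexp := classFun_expand (isClassFunction_indFun H η)
    rw [hS, hf, hexp]
    simp only [Finset.sum_apply, Pi.smul_apply, smul_eq_mul, Finset.sum_mul]
    rw [Finset.sum_comm]
    refine Finset.sum_eq_zero fun ψ _ => ?_
    by_cases hψ : ∃ x ∈ X, (ψ : G → ℂ) x ≠ (ψ : G → ℂ) 1
    · refine Finset.sum_eq_zero fun n _ => ?_
      rw [← classFun_isConj (isClassFunction_irr ψ) (hconj _ (mem_subgroupOf.1 n.2)), hvan ψ hψ]
      ring
    · push Not at hψ
      have hcst : ∀ x ∈ X, (ψ : G → ℂ) (x * g) = (ψ : G → ℂ) g := by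
        intro x hx
        rcases cosetAvg_irr X ψ with h | h
        · rw [← congrFun h (x * g), cosetAvg_mul_left X _ ⟨x, hx⟩ g, congrFun h g]
        · exfalso
          have h1 := congrFun h 1
          simp only [cosetAvg, mul_one, Pi.zero_apply] at h1
          rw [Finset.sum_congr rfl fun (y : X) _ => hψ y y.2, Finset.sum_const, Finset.card_univ,
            nsmul_eq_mul, ← Nat.card_eq_fintype_card,
            inv_mul_cancel_left₀ (by exact_mod_cast Nat.card_pos.ne')] at h1
          exact irr_one_ne_zero ψ h1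
      rw [Finset.sum_congr rfl fun (n : N) _ =>
          congrArg (fun z => _ * z * _) (hcst _ (mem_subgroupOf.1 n.2)), ← Finset.mul_sum, ← map_sum, hη0,
        map_zero, mul_zero]
  -- each conjugate contributes zero or the order of `X`
  let T : G → ℂ := fun y =>
    ∑ n : N, extendByZero H η (y⁻¹ * (((n : H) : G) * g) * y) * conj (η ((n : H) * g₀))
  have hself : cosetAvg N (fun x => η x * conj (η x)) = fun _ => 1 :=
    cosetAvg_self_eq_one N ⟨η, hηirr⟩ (hηN.symm ▸ ⟨d', ρ, hρ, rfl⟩)
  have hsum : ∀ F : H → ℂ, ∑ n : N, F ((n : H) * g₀) * conj (η ((n : H) * g₀)) =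
      (Nat.card N : ℂ) * cosetAvg N (fun x => F x * conj (η x)) g₀ := by
    intro F
    simp only [cosetAvg]
    rw [mul_inv_cancel_left₀ hNne]
  have hT1 : T 1 = (Nat.card N : ℂ) := by
    have : T 1 = ∑ n : N, η ((n : H) * g₀) * conj (η ((n : H) * g₀)) :=
      Finset.sum_congr rfl fun n _ => by
        rw [inv_one, one_mul, mul_one]
        exact congrArg (· * _) (Function.Injective.extend_apply Subtype.val_injective η 0 ((n : H) * g₀))
    rw [this, hsum η, hself, mul_one]
  have hT : ∀ y : G, ∃ t : ℕ, T y = t := by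
    intro y
    by_cases hy : y⁻¹ * g * y ∈ H
    swap
    · refine ⟨0, (Nat.cast_zero (R := ℂ)).symm ▸ Finset.sum_eq_zero fun n _ => ?_⟩
      rw [extendByZero, Function.extend_apply', Pi.zero_apply, zero_mul]
      rintro ⟨⟨a, ha⟩, ha'⟩
      have ha'' : a = y⁻¹ * (((n : H) : G) * g) * y := ha'
      refine hy ?_
      have hnX : y⁻¹ * ((n : H) : G) * y ∈ H := hXH (by
        simpa using ‹X.Normal›.conj_mem _ n.2 y⁻¹)
      have := H.mul_mem (H.inv_mem hnX) (ha'' ▸ ha)
      simpa [mul_assoc] using this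
    have hHy : ∀ h ∈ H, y⁻¹ * h * y ∈ H := by
      have : H ≤ H.comap (MulAut.conj y⁻¹).toMonoidHom := by
        refine sup_le (fun x hx => ?_) ((zpowers_le).2 ?_)
        · exact hXH (by simpa using ‹X.Normal›.conj_mem _ hx y⁻¹)
        · simpa using hy
      intro h hh
      simpa using this hh
    let c : H →* H :=
      { toFun := fun h => ⟨y⁻¹ * h * y, hHy h h.2⟩
        map_one' := Subtype.ext (by simp)
        map_mul' := fun a b => Subtype.ext (by simp [mul_assoc]) }
    have hci : Function.Injective c := fun a b h => Subtype.ext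
      (mul_left_cancel (mul_right_cancel (congrArg Subtype.val h : y⁻¹ * (a : G) * y = y⁻¹ * b * y)))
    have hcs := Finite.injective_iff_surjective.1 hci
    set η' : H → ℂ := fun h => η (c h) with hη'
    have hη'irr : IsIrrCharacter H η' := isIrrCharacter_comp_surjective hηirr c hcs
    have hTy : T y = (Nat.card N : ℂ) * cosetAvg N (fun x => η' x * conj (η x)) g₀ := by
      rw [← hsum η']
      exact Finset.sum_congr rfl fun n _ =>
        congrArg (· * _) (Function.Injective.extend_apply Subtype.val_injective η 0 (c ((n : H) * g₀)))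
    have hchar : IsCharacter H (cosetAvg N (fun x => η' x * conj (η x))) :=
      isCharacter_cosetAvg N (isCharacter_mul (isCharacter_of_isIrr hη'irr)
        (isCharacter_conj (isCharacter_of_isIrr hηirr)))
    have hcN : ∀ n : N, c n ∈ N := fun n => by
      show y⁻¹ * ((n : H) : G) * y ∈ X
      simpa using ‹X.Normal›.conj_mem _ n.2 y⁻¹
    let cN : N →* N := (c.comp N.subtype).codRestrict N hcN
    have hcNi : Function.Injective cN := fun a b h => Subtype.ext (hci (congrArg Subtype.val h))
    have hη'N : (fun n : N => η' n) = fun n => ρ.character (cN n) :=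
      funext fun n => congrFun hηN (cN n)
    by_cases heq : (fun n : N => η' n) = ρ.character
    · obtain ⟨σ', hσ', hσ'c⟩ := exists_rep_extension_top N ρ (isCharacter_of_isIrr hη'irr)
        fun n => congrFun heq n
      obtain ⟨φ⟩ := nonempty_equiv_of_character_eq (σ.comp c) σ' (by rw [hσ'c]; rfl)
      have hdet' : detHom σ = detHom σ' := by
        refine MonoidHom.ext fun h => Units.ext ?_
        rw [hσdet, detHom_coe, det_eq_of_equiv φ h]
        show ((1 : H →* ℂˣ) h : ℂ) = LinearMap.det (σ (c h))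
        rw [← detHom_coe, hσdet, MonoidHom.one_apply, MonoidHom.one_apply]
      have hσσ := extension_det_unique N ρ hcop hσ hσ' hdet'
      refine ⟨Nat.card N, ?_⟩
      rw [hTy, show η' = η by rw [← hσ'c, hσσ], hself, mul_one]
    · refine ⟨0, ?_⟩
      have h1 : cosetAvg N (fun x => η' x * conj (η x)) 1 = 0 := by
        rw [cosetAvg_one_eq, hηN, hη'N]
        exact classInner_irr_ne
          (χ := ⟨_, isIrrCharacter_comp_surjective ⟨d', ρ, hρ, rfl⟩ cN
            (Finite.injective_iff_surjective.1 hcNi)⟩)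
          (ψ := ⟨_, d', ρ, hρ, rfl⟩) fun e => heq (hη'N.trans (congrArg Subtype.val e))
      rw [hTy, eq_zero_of_degree_zero hchar h1, Pi.zero_apply, mul_zero, Nat.cast_zero]
  choose t ht using hT
  have hS1 : S = (Nat.card H : ℂ)⁻¹ * ∑ y : G, T y := by
    simp only [hS, hf, indFun, T, Finset.mul_sum, Finset.sum_mul, mul_assoc]
    exact Finset.sum_comm
  rw [hS0, Finset.sum_congr rfl fun y _ => ht y, ← Nat.cast_sum] at hS1
  have h2 := (mul_eq_zero.1 hS1.symm).resolve_left
    (inv_ne_zero (Nat.cast_ne_zero.2 Nat.card_pos.ne'))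
  have h3 := (Finset.sum_eq_zero_iff.1 (Nat.cast_eq_zero.1 h2)) 1 (Finset.mem_univ _)
  have h4 := ht 1
  rw [h3, hT1, Nat.cast_zero] at h4
  exact hNne h4

/-- No fixed points, and order prime to `p`. -/
theorem coprime_and_fpf (hperf : commutator X = ⊤) (g : G) {p e : ℕ} [hp : Fact p.Prime]
    (hg : g ^ p ^ e = 1) (hconj : ∀ x ∈ X, IsConj g (x * g))
    (hvan : ∀ ψ : IrrCharacter G, (∃ x ∈ X, (ψ : G → ℂ) x ≠ (ψ : G → ℂ) 1) → (ψ : G → ℂ) g = 0) :
    ¬ p ∣ Nat.card X ∧ ∀ x ∈ X, g * x * g⁻¹ = x → x = 1 := by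
  classical
  haveI := Fintype.ofFinite (IrrCharacter X)
  let α : X ≃* X := MulAut.conjNormal g
  let one : IrrCharacter X := ⟨fun _ => 1, isIrrCharacter_one⟩
  have hα : ∀ θ : IrrCharacter X, conjFun X (θ : X → ℂ) g = (θ : X → ℂ) ∘ α := fun θ => rfl
  choose d hd0 hd using fun θ : IrrCharacter X => isIrrCharacter_degree θ.2
  let π : Equiv.Perm (IrrCharacter X) := Equiv.ofBijective
    (fun θ => ⟨(θ : X → ℂ) ∘ α, isIrrCharacter_comp_surjective θ.2 α.toMonoidHom α.surjective⟩)
    (Finite.injective_iff_bijective.1 fun a b h => Subtype.ext (funext fun x => by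
      obtain ⟨z, rfl⟩ := α.surjective x
      exact congrFun (congrArg Subtype.val h) z))
  have hπ : ∀ θ : IrrCharacter X, π θ = θ → d θ ≠ 0 → p ∣ d θ ∨ θ = one := by
    intro θ hθ _
    by_contra hcon
    push Not at hcon
    exact false_of_invariant X hperf g hp.out hg hconj hvan θ
      (fun e => hcon.2 (Subtype.ext e)) (congrArg Subtype.val hθ) (hd θ) hcon.1
  have hnd : ¬ p ∣ Nat.card X := by
    intro hdvd
    have hdπ : ∀ θ, d (π θ) = d θ := fun θ => by
      have h1 := hd (π θ)
      have h2 : (π θ : X → ℂ) 1 = (θ : X → ℂ) 1 := congrArg (θ : X → ℂ) (map_one α)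
      rw [h2, hd θ] at h1
      exact_mod_cast h1.symm
    have hπpow : π ^ p ^ e = 1 := by
      have key : ∀ (k : ℕ) (θ : IrrCharacter X), ∀ x : X,
          ((π ^ k) θ : X → ℂ) x = (θ : X → ℂ) (MulAut.conjNormal (g ^ k) x) := by
        intro k
        induction k with
        | zero => intro θ x; simp
        | succ k ih =>
          intro θ x
          rw [pow_succ', Equiv.Perm.mul_apply]
          show ((π ^ k) θ : X → ℂ) (α x) = _
          rw [ih]
          refine congrArg (θ : X → ℂ) (Subtype.ext ?_)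
          simp [α, pow_succ, mul_assoc]
      refine Equiv.ext fun θ => Subtype.ext (funext fun x => ?_)
      rw [key, hg]
      simp
    have hsq : ∑ θ : IrrCharacter X, (d θ : ZMod p) ^ 2 = 0 := by
      have h := sum_degree_sq (G := X)
      simp only [hd] at h
      have h' : ∑ θ : IrrCharacter X, d θ ^ 2 = Nat.card X := by exact_mod_cast h
      have := congrArg (fun n : ℕ => (n : ZMod p)) h'
      push_cast at this
      rw [this]
      exact (ZMod.natCast_eq_zero_iff _ _).2 hdvd
    have hlevel : ∀ j : ℕ, ((Finset.univ.filter fun θ => d θ = j).card : ZMod p) =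
        ((Finset.univ.filter fun θ => d θ = j ∧ π θ = θ).card : ZMod p) := by
      intro j
      let σ : Equiv.Perm {θ : IrrCharacter X // d θ = j} := π.subtypePerm fun θ => by rw [hdπ]
      have hσ : σ ^ p ^ e = 1 := by
        rw [Equiv.Perm.subtypePerm_pow]
        refine Equiv.ext fun θ => Subtype.ext ?_
        simp [hπpow]
      have h := Equiv.Perm.card_compl_support_modEq hσ
      rw [← ZMod.natCast_eq_natCast_iff] at h
      rw [← Fintype.card_subtype, ← h]
      congr 1
      rw [← Finset.card_map (Function.Embedding.subtype _)]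
      congr 1
      ext θ
      rw [Finset.mem_map, Finset.mem_filter]
      constructor
      · rintro ⟨⟨a, ha⟩, hm, rfl⟩
        rw [Finset.mem_compl, Equiv.Perm.mem_support, not_not] at hm
        exact ⟨Finset.mem_univ _, ha, congrArg Subtype.val hm⟩
      · rintro ⟨-, ha, hfx⟩
        refine ⟨⟨θ, ha⟩, ?_, rfl⟩
        rw [Finset.mem_compl, Equiv.Perm.mem_support, not_not]
        exact Subtype.ext hfx
    have hfix : ∑ θ : IrrCharacter X, (d θ : ZMod p) ^ 2 =
        ∑ θ ∈ Finset.univ.filter (fun θ => π θ = θ), (d θ : ZMod p) ^ 2 := by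
      rw [← Finset.sum_fiberwise_of_maps_to (g := d) (t := Finset.univ.image d)
        fun θ _ => Finset.mem_image_of_mem d (Finset.mem_univ θ),
        ← Finset.sum_fiberwise_of_maps_to (s := Finset.univ.filter fun θ => π θ = θ) (g := d)
        (t := Finset.univ.image d) fun θ _ => Finset.mem_image_of_mem d (Finset.mem_univ θ)]
      refine Finset.sum_congr rfl fun j _ => ?_
      have h1 : ∀ (s : Finset (IrrCharacter X)),
          ∑ θ ∈ s.filter (fun θ => d θ = j), (d θ : ZMod p) ^ 2 =
            ((s.filter fun θ => d θ = j).card : ZMod p) * (j : ZMod p) ^ 2 := fun s => by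
        rw [← nsmul_eq_mul, ← Finset.sum_const]
        exact Finset.sum_congr rfl fun θ hθ => by rw [(Finset.mem_filter.1 hθ).2]
      rw [h1, h1, hlevel, Finset.filter_filter]
      simp only [and_comm]
    have hone : π one = one := Subtype.ext rfl
    have hd1 : d one = 1 := Nat.cast_injective (R := ℂ) ((hd one).symm.trans Nat.cast_one.symm)
    have hfix' := hfix.trans (Finset.sum_eq_single_of_mem one
      (Finset.mem_filter.2 ⟨Finset.mem_univ _, hone⟩) (fun θ hθ hne => ?_))
    rw [hsq, hd1] at hfix'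
    · simp at hfix'
    · rcases hπ θ (Finset.mem_filter.1 hθ).2 (hd0 θ).ne' with h | h
      · rw [(ZMod.natCast_eq_zero_iff _ _).2 h, zero_pow two_ne_zero]
      · exact absurd h hne
  refine ⟨hnd, fun x hx hfx => ?_⟩
  by_contra hne
  have hB := card_fixed_classes_aut α
  have h2 : 2 ≤ Nat.card {C : ConjClasses X // ConjClasses.map α.toMonoidHom C = C} := by
    have hxa : α ⟨x, hx⟩ = ⟨x, hx⟩ := Subtype.ext hfx
    refine Finite.one_lt_card_iff_nontrivial.2 ⟨⟨ConjClasses.mk 1, congrArg ConjClasses.mk (map_one α)⟩,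
      ⟨ConjClasses.mk ⟨x, hx⟩, congrArg ConjClasses.mk hxa⟩, fun e => hne ?_⟩
    have := isConj_one_right.1 (ConjClasses.mk_eq_mk_iff_isConj.1 (congrArg Subtype.val e))
    exact congrArg Subtype.val this
  rw [hB] at h2
  haveI := Finite.one_lt_card_iff_nontrivial.1 h2
  obtain ⟨⟨θ, hθ⟩, hθne⟩ := exists_ne
    (⟨one, rfl⟩ : {χ : IrrCharacter X // (χ : X → ℂ) ∘ α = (χ : X → ℂ)})
  have hne1 : θ ≠ one := fun e => hθne (Subtype.ext e)
  rcases hπ θ (Subtype.ext hθ) (hd0 θ).ne' with h | h
  · exact hnd (h.trans (degree_dvd_card θ (hd θ)))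
  · exact hne1 h

end CfsgLib.Char.OneNonzero
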