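import Cfsg.Agent.Lib.PGroup.FixedPointFree

/-!
A perfect group of odd order with a fixed point free automorphism `φ` with `φ ^ 4 = 1` is trivial
(Gorenstein–Herstein, for odd order: elements inverted by `φ ^ 2` of coprime order commute).
-/

set_option autoImplicit false

namespace CfsgLib.Char.OneNonzero

open Subgroup CfsgLib.PGroup

universe u

variable {X : Type u} [Group X] [Finite X]

/-- The unique invariant Sylow subgroup contains every invariant `p`-subgroup. -/
theorem le_fpf_sylow {φ : X ≃* X} (hφ : MonoidHom.FixedPointFree φ) {p : ℕ} [Fact p.Prime]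
    (P : Sylow p X) (hP : ∀ x ∈ (P : Subgroup X), φ x ∈ (P : Subgroup X)) :
    ∀ (d : ℕ) (U : Subgroup X), Nat.card X - Nat.card U = d → IsPGroup p U →
      (∀ x ∈ U, φ x ∈ U) → U ≤ P := by
  intro d
  induction d using Nat.strong_induction_on with
  | _ d ih =>
    intro U hd hU hUφ
    set N := normalizer (U : Set X) with hN
    have hmapU : U.map (φ : X →* X) = U := eq_of_le_of_card_ge
      (map_le_iff_le_comap.2 fun h hh => hUφ h hh) (card_map_of_injective φ.injective).ge
    have hNφ : ∀ x ∈ N, φ x ∈ N := by
      intro x hx
      rw [hN, mem_normalizer_iff] at hx ⊢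
      intro h
      obtain ⟨h', rfl⟩ := φ.surjective h
      have e1 : ∀ z, φ z ∈ U ↔ z ∈ U := fun z => by
        constructor
        · intro hz
          rw [← hmapU, mem_map] at hz
          obtain ⟨w, hw, hwz⟩ := hz
          exact φ.injective hwz ▸ hw
        · exact hUφ z
      rw [← map_inv, ← map_mul, ← map_mul, e1, e1]
      exact hx h'
    let f : N →* N := ((φ : X →* X).comp N.subtype).codRestrict N fun h => hNφ h h.2
    have hfi : Function.Injective f := fun a b h =>
      Subtype.ext (φ.injective (congrArg Subtype.val h))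
    let φN : N ≃* N := MulEquiv.ofBijective f ((Finite.injective_iff_bijective (f := f)).1 hfi)
    have hφN : MonoidHom.FixedPointFree φN := fun h hh => Subtype.ext (hφ _ (congrArg Subtype.val hh))
    obtain ⟨R, hR⟩ := fpf_exists_invariant_sylow hφN p
    set V : Subgroup X := (R : Subgroup N).map N.subtype with hV
    have hVp : IsPGroup p V := R.2.map _
    have hVφ : ∀ x ∈ V, φ x ∈ V := by
      rintro x ⟨y, hy, rfl⟩
      exact ⟨φN y, by rw [← hR]; exact mem_map_of_mem _ hy, rfl⟩
    have hUV : U ≤ V := by
      have hle : U ≤ N := le_normalizer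
      haveI : (U.subgroupOf N).Normal := normal_subgroupOf_of_le_normalizer le_rfl
      have hp : IsPGroup p ↥((R : Subgroup N) ⊔ U.subgroupOf N) :=
        R.2.to_sup_of_normal_right (hU.of_equiv (subgroupOfEquivOfLe hle).symm)
      have := R.3 hp le_sup_left
      intro x hx
      exact ⟨⟨x, hle hx⟩, this ▸ (le_sup_right (a := (R : Subgroup N)) (show (⟨x, hle hx⟩ : N) ∈
        U.subgroupOf N from hx)), rfl⟩
    rcases hUV.eq_or_lt with e | hlt
    · -- then `U` is a Sylow subgroup
      have hmax : ∀ W : Subgroup X, IsPGroup p W → U ≤ W → W = U := by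
        intro W hW hUW
        by_contra hne
        have : Group.IsNilpotent W := hW.isNilpotent
        have hlt' : U.subgroupOf W < ⊤ := lt_top_iff_ne_top.2 fun h =>
          hne (le_antisymm (subgroupOf_eq_top.1 h) hUW)
        obtain ⟨w, hwn, hwU⟩ := SetLike.exists_of_lt
          (Group.normalizerCondition_of_isNilpotent _ hlt')
        have hwN : (w : X) ∈ N := by
          rw [hN, mem_normalizer_iff]
          intro h
          rw [mem_normalizer_iff] at hwn
          constructor
          · intro hh; exact (hwn ⟨h, hUW hh⟩).1 hh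
          · intro hh
            have hhW : h ∈ W := by
              have := W.mul_mem (W.mul_mem (W.inv_mem w.2) (hUW hh)) w.2
              simpa [mul_assoc] using this
            exact (hwn ⟨h, hhW⟩).2 hh
        have hp : IsPGroup p ↥(W.subgroupOf N) := hW.comap_of_injective _ Subtype.val_injective
        have := R.3 hp (fun y hy => hUW (e.ge ⟨y, hy, rfl⟩))
        exact hwU (e.ge ⟨⟨w, hwN⟩, this ▸ w.2, rfl⟩)
      let S : Sylow p X := ⟨U, hU, fun hW hle => hmax _ hW hle⟩
      obtain ⟨a, ha⟩ := MulAction.exists_smul_eq X P S
      have haU : ∀ z, z ∈ U ↔ a⁻¹ * z * a ∈ (P : Subgroup X) := by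
        intro z
        show z ∈ (S : Subgroup X) ↔ _
        rw [← ha, Sylow.coe_subgroup_smul]
        simp [mem_pointwise_smul_iff_inv_smul_mem]
      have hmapP : (P : Subgroup X).map (φ : X →* X) = P := eq_of_le_of_card_ge
        (map_le_iff_le_comap.2 fun h hh => hP h hh) (card_map_of_injective φ.injective).ge
      have hP' : ∀ z, φ z ∈ (P : Subgroup X) → z ∈ (P : Subgroup X) := fun z hz => by
        rw [← hmapP, mem_map] at hz
        obtain ⟨w, hw, hwz⟩ := hz
        exact φ.injective hwz ▸ hw
      have hNPφ : ∀ x ∈ normalizer ((P : Subgroup X) : Set X),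
          φ x ∈ normalizer ((P : Subgroup X) : Set X) := by
        intro x hx
        rw [mem_normalizer_iff] at hx ⊢
        intro h
        obtain ⟨h', rfl⟩ := φ.surjective h
        rw [← map_inv, ← map_mul, ← map_mul]
        exact ⟨fun hh => hP _ ((hx h').1 (hP' _ hh)), fun hh => hP _ ((hx h').2 (hP' _ hh))⟩
      have hn : (φ a)⁻¹ * a ∈ normalizer ((P : Subgroup X) : Set X) := by
        -- `a` and `φ a` both conjugate `P` to `U`
        rw [mem_normalizer_iff]
        intro h
        have h1 : ∀ z, z ∈ U ↔ (φ a)⁻¹ * z * φ a ∈ (P : Subgroup X) := by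
          intro z
          obtain ⟨z', rfl⟩ := φ.surjective z
          rw [← map_inv, ← map_mul, ← map_mul]
          constructor
          · intro hz
            refine hP _ ((haU z').1 ?_)
            rw [← hmapU, mem_map] at hz
            obtain ⟨w, hw, hwz⟩ := hz
            exact φ.injective hwz ▸ hw
          · intro hz
            exact hUφ _ ((haU z').2 (hP' _ hz))
        constructor
        · intro hh
          have := (h1 (a * h * a⁻¹)).1 ((haU _).2 (by simpa [mul_assoc] using hh))
          simpa [mul_assoc] using this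
        · intro hh
          have := (haU (a * h * a⁻¹)).1 ((h1 _).2 (by simpa [mul_assoc] using hh))
          simpa [mul_assoc] using this
      have haN := fpf_mem_of_commutator_mem hφ _ hNPφ hn
      intro z hz
      have := (mem_normalizer_iff.1 haN (a⁻¹ * z * a)).1 ((haU z).1 hz)
      simpa [mul_assoc] using this
    · refine hUV.trans (ih (Nat.card X - Nat.card V) ?_ V rfl hVp hVφ)
      have h1 := Set.ncard_lt_ncard (SetLike.coe_ssubset_coe.2 hlt) (Set.toFinite _)
      rw [← Nat.card_coe_set_eq, ← Nat.card_coe_set_eq] at h1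
      have h2 : Nat.card V ≤ Nat.card X := card_le_card_group V
      change Nat.card U < Nat.card V at h1
      omega

end CfsgLib.Char.OneNonzero
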