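import Cfsg.Agent.Lib.Char.OneNonzero.FpfFour

/-!
A perfect group of odd order with a fixed point free automorphism `φ`, `φ ^ 4 = 1`, is trivial.
-/

set_option autoImplicit false

namespace CfsgLib.Char.OneNonzero

open Subgroup CfsgLib.PGroup

universe u

variable {X : Type u} [Group X] [Finite X]

theorem subsingleton_of_fpf_four (φ : X ≃* X) (hφ : MonoidHom.FixedPointFree φ)
    (h4 : ∀ x, φ (φ (φ (φ x))) = x) (hodd : Odd (Nat.card X)) (hperf : commutator X = ⊤) :
    Subsingleton X := by
  classical
  set π := (Nat.card X).primeFactors with hπ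
  have hn0 : Nat.card X ≠ 0 := Nat.card_pos.ne'
  -- invariant Sylow subgroups
  have hsyl : ∀ p : π, ∃ P : Subgroup X, Nat.card P = (p : ℕ) ^ (Nat.card X).factorization p ∧
      IsPGroup (p : ℕ) P ∧ (∀ x ∈ P, φ x ∈ P) ∧
        ∀ U : Subgroup X, IsPGroup (p : ℕ) U → (∀ x ∈ U, φ x ∈ U) → U ≤ P := by
    intro p
    haveI : Fact (Nat.Prime p) := ⟨Nat.prime_of_mem_primeFactors p.2⟩
    obtain ⟨P, hP⟩ := fpf_exists_invariant_sylow hφ (p : ℕ)
    have hPφ : ∀ x ∈ (P : Subgroup X), φ x ∈ (P : Subgroup X) := fun x hx => by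
      rw [← hP]; exact mem_map_of_mem _ hx
    exact ⟨P, P.card_eq_multiplicity, P.2, hPφ,
      fun U hU hUφ => le_fpf_sylow hφ P hPφ _ U rfl hU hUφ⟩
  choose P hPcard hPp hPφ hPle using hsyl
  -- `φ` inverts the fixed points of `φ ^ 2`
  let D : Subgroup X := MonoidHom.eqLocus ((φ : X →* X).comp (φ : X →* X)) (MonoidHom.id X)
  have memD : ∀ x, x ∈ D ↔ φ (φ x) = x := fun x => Iff.rfl
  have hDφ : ∀ x ∈ D, φ x ∈ D := fun x hx => by
    rw [memD] at hx ⊢; rw [hx]
  have hinvD : ∀ x ∈ D, φ x = x⁻¹ := by
    intro x hx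
    obtain ⟨w, hw⟩ := fpf_commutator_surjective hφ x
    have hwD : w ∈ D := fpf_mem_of_commutator_mem hφ D hDφ (hw.symm ▸ hx)
    rw [← hw, map_mul, map_inv, (memD w).1 hwD, mul_inv_rev, inv_inv]
  have hDcomm : ∀ a ∈ D, ∀ b ∈ D, a * b = b * a := by
    intro a ha b hb
    have h := hinvD _ (mul_mem ha hb)
    rw [map_mul, hinvD a ha, hinvD b hb, mul_inv_rev] at h
    have := congrArg (·⁻¹) h
    simp only [mul_inv_rev, inv_inv] at this
    exact this.symm
  let I : Set X := {x | φ (φ x) = x⁻¹}
  have hIpow : ∀ x ∈ I, ∀ k : ℕ, x ^ k ∈ I := fun x hx k => by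
    show φ (φ (x ^ k)) = (x ^ k)⁻¹
    rw [map_pow, map_pow, hx, inv_pow]
  have hcop : (Nat.card X).Coprime 2 := hodd.coprime_two_right
  -- the decomposition `X = D I`, relative to invariant subgroups
  have hdec : ∀ Y : Subgroup X, (∀ x ∈ Y, φ x ∈ Y) →
      Nat.card ↥(D ⊓ Y) * Nat.card {x : X // x ∈ I ∧ x ∈ Y} = Nat.card Y := by
    intro Y hY
    rw [← Nat.card_prod]
    refine Nat.card_eq_of_bijective
      (fun z : ↥(D ⊓ Y) × {x : X // x ∈ I ∧ x ∈ Y} =>
        (⟨(z.1 : X) * z.2, mul_mem z.1.2.2 z.2.2.2⟩ : Y)) ⟨?_, ?_⟩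
    · rintro ⟨d, i⟩ ⟨d', i'⟩ h
      have h' : (d : X) * i = d' * i' := congrArg Subtype.val h
      have h2 := congrArg (fun x => φ (φ x)) h'
      simp only [map_mul] at h2
      rw [(memD _).1 d.2.1, (memD _).1 d'.2.1, i.2.1, i'.2.1] at h2
      have hi : (i : X) ^ 2 = (i' : X) ^ 2 := by
        have e1 : (d' : X)⁻¹ * d = i' * (i : X)⁻¹ := by
          rw [eq_mul_inv_iff_mul_eq, mul_assoc, h', inv_mul_cancel_left]
        have e2 : (d' : X)⁻¹ * d = (i' : X)⁻¹ * i := by
          have := congrArg (fun x => (d' : X)⁻¹ * x * (i : X)) h2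
          simpa [mul_assoc] using this
        have e3 := e1.symm.trans e2
        rw [sq, sq]
        have := congrArg (fun x => (i' : X) * x * (i : X)) e3
        simpa [mul_assoc] using this.symm
      have hii : (i : X) = i' := (powCoprime hcop).injective hi
      have hdd : (d : X) = d' := by rw [hii] at h'; exact mul_right_cancel h'
      exact Prod.ext (Subtype.ext hdd) (Subtype.ext hii)
    · intro z
      let u : X := (φ (φ (z : X)))⁻¹ * z
      have hu : φ (φ u) = u⁻¹ := by
        simp only [u, map_mul, map_inv, h4, mul_inv_rev, inv_inv]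
      obtain ⟨k, hk⟩ := hodd
      let i : X := u ^ (k + 1)
      have hi2 : i * i = u := by
        rw [← pow_add, show k + 1 + (k + 1) = Nat.card X + 1 by omega, pow_succ, pow_card_eq_one',
          one_mul]
      have hiI : i ∈ I := hIpow u hu _
      have hiY : i ∈ Y := pow_mem (mul_mem (inv_mem (hY _ (hY _ z.2))) z.2) _
      have hdD : (z : X) * i⁻¹ ∈ D := by
        rw [memD, map_mul, map_mul, map_inv, map_inv, hiI, inv_inv]
        have e : φ (φ (z : X)) = z * u⁻¹ := by simp [u]
        rw [e, ← hi2, mul_inv_rev, mul_assoc, mul_assoc, inv_mul_cancel, mul_one]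
      exact ⟨⟨⟨(z : X) * i⁻¹, hdD, Y.mul_mem z.2 (Y.inv_mem hiY)⟩, ⟨i, hiI, hiY⟩⟩,
        Subtype.ext (inv_mul_cancel_right _ _)⟩
  -- `p`-elements of `I` lie in `P p`
  have hnorm : ∀ z : X, φ (φ (φ z)) * φ (φ z) * φ z * z = 1 := by
    intro z
    obtain ⟨x, rfl⟩ := fpf_commutator_surjective hφ z
    simp only [map_mul, map_inv, h4]
    group
  have hIp : ∀ (p : π) (x : X), x ∈ I → IsPGroup (p : ℕ) (zpowers x) → x ∈ P p := by
    intro p x hx hxp
    haveI : Fact (Nat.Prime p) := ⟨Nat.prime_of_mem_primeFactors p.2⟩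
    have h1 := hnorm x
    rw [show φ (φ x) = x⁻¹ from hx, map_inv] at h1
    have hc : Commute x (φ x) := by
      have := congrArg (fun w => x * φ x * w) h1
      simpa [mul_assoc, Commute, SemiconjBy] using this.symm
    have hxp' : IsPGroup (p : ℕ) (zpowers (φ x)) := by
      have := hxp.map (φ : X →* X)
      rwa [MonoidHom.map_zpowers] at this
    have hn : zpowers x ≤ normalizer ((zpowers (φ x) : Subgroup X) : Set X) := by
      rw [zpowers_le, mem_normalizer_iff]
      intro h
      constructor
      · intro hh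
        obtain ⟨k, rfl⟩ := mem_zpowers_iff.1 hh
        rw [(hc.zpow_right k).eq, mul_inv_cancel_right]
        exact zpow_mem (mem_zpowers _) _
      · intro hh
        obtain ⟨k, hk⟩ := mem_zpowers_iff.1 hh
        have e : h = φ x ^ k := by
          calc h = x⁻¹ * (x * h * x⁻¹) * x := by group
            _ = x⁻¹ * φ x ^ k * x := by rw [hk]
            _ = x⁻¹ * x * φ x ^ k := by rw [mul_assoc, ← (hc.zpow_right k).eq, mul_assoc]
            _ = φ x ^ k := by simp
        rw [e]
        exact zpow_mem (mem_zpowers _) _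
    refine hPle p _ (hxp.to_sup_of_normal_right' hxp' hn) (fun y hy => ?_)
      (le_sup_left (b := zpowers (φ x)) (mem_zpowers x))
    have : (zpowers x ⊔ zpowers (φ x)).map (φ : X →* X) ≤ zpowers x ⊔ zpowers (φ x) := by
      rw [Subgroup.map_sup, MonoidHom.map_zpowers, MonoidHom.map_zpowers]
      refine sup_le le_sup_right ((zpowers_le).2 (le_sup_left (b := zpowers (φ x)) ?_))
      show φ (φ x) ∈ zpowers x
      rw [show φ (φ x) = x⁻¹ from hx]
      exact inv_mem (mem_zpowers x)
    exact this (mem_map_of_mem _ hy)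
  -- the `p`-parts
  have hex : ∀ p : π, ∃ e : ℕ, e ≡ 1 [MOD (p : ℕ) ^ (Nat.card X).factorization p] ∧
      e ≡ 0 [MOD Nat.card X / (p : ℕ) ^ (Nat.card X).factorization p] := by
    intro p
    obtain ⟨e, he⟩ := Nat.chineseRemainder
      ((Nat.coprime_ordCompl (Nat.prime_of_mem_primeFactors p.2) hn0).pow_left
        ((Nat.card X).factorization p)) 1 0
    exact ⟨e, he⟩
  choose e he1 he0 using hex
  have hpow : ∀ (p : π) (x : X), (x ^ e p) ^ ((p : ℕ) ^ (Nat.card X).factorization p) = 1 := by
    intro p x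
    obtain ⟨k, hk⟩ := Nat.modEq_zero_iff_dvd.1 (he0 p)
    rw [← pow_mul, hk, mul_comm _ k, mul_assoc, Nat.div_mul_cancel (Nat.ordProj_dvd _ _), mul_comm,
      pow_mul, pow_card_eq_one', one_pow]
  have hpart : ∀ (p : π) (x : X), x ∈ I → x ^ e p ∈ I ∧ x ^ e p ∈ P p := by
    intro p x hx
    haveI : Fact (Nat.Prime p) := ⟨Nat.prime_of_mem_primeFactors p.2⟩
    refine ⟨hIpow x hx _, hIp p _ (hIpow x hx _) ?_⟩
    obtain ⟨j, -, hj⟩ := (Nat.dvd_prime_pow (Nat.prime_of_mem_primeFactors p.2)).1
      (orderOf_dvd_of_pow_eq_one (hpow p x))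
    exact IsPGroup.of_card (by rw [Nat.card_zpowers, hj])
  let Θ : {x : X // x ∈ I} → ((p : π) → {x : X // x ∈ I ∧ x ∈ P p}) :=
    fun x p => ⟨(x : X) ^ e p, hpart p x x.2⟩
  have hS : ∀ x y : X, (∀ p, x ^ e p = y ^ e p) → x = y := by
    intro x y h
    have hsum : (Nat.card X).Coprime (∑ p : π, e p) := by
      refine Nat.coprime_of_dvd fun q hq hd hd' => ?_
      let q' : π := ⟨q, Nat.mem_primeFactors.2 ⟨hq, hd, hn0⟩⟩
      have hs : q ∣ e q' := by
        rw [← Finset.add_sum_erase _ _ (Finset.mem_univ q')] at hd'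
        refine (Nat.dvd_add_left (Finset.dvd_sum fun p hp => ?_)).1 hd'
        refine dvd_trans ?_ (Nat.modEq_zero_iff_dvd.1 (he0 p))
        rcases hq.dvd_mul.1 (((Nat.div_mul_cancel (Nat.ordProj_dvd (Nat.card X) (p : ℕ))).symm ▸ hd :
          q ∣ Nat.card X / (p : ℕ) ^ (Nat.card X).factorization p *
            (p : ℕ) ^ (Nat.card X).factorization p)) with h | h
        · exact h
        · exact absurd ((Nat.prime_dvd_prime_iff_eq hq (Nat.prime_of_mem_primeFactors p.2)).1
            (hq.dvd_of_dvd_pow h)).symm (fun h' => (Finset.mem_erase.1 hp).1 (Subtype.ext h'))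
      have h1 : q ∣ q ^ (Nat.card X).factorization q :=
        dvd_pow_self q (hq.factorization_pos_of_dvd hn0 hd).ne'
      exact hq.not_dvd_one (((he1 q').dvd_iff h1).1 hs)
    refine (powCoprime hsum).injective ?_
    show x ^ ∑ p : π, e p = y ^ ∑ p : π, e p
    have key : ∀ (l : List π), x ^ (l.map e).sum = y ^ (l.map e).sum := by
      intro l
      induction l with
      | nil => simp
      | cons a l ih => rw [List.map_cons, List.sum_cons, pow_add, pow_add, h, ih]
    simpa using key Finset.univ.toList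
  have hΘi : Function.Injective Θ := fun x y h =>
    Subtype.ext (hS _ _ fun p => congrArg Subtype.val (congrFun h p))
  have hDp : ∀ p : π, Nat.card ↥(D ⊓ P p) = (p : ℕ) ^ (Nat.card D).factorization p := by
    intro p
    haveI : Fact (Nat.Prime p) := ⟨Nat.prime_of_mem_primeFactors p.2⟩
    let S : Sylow (p : ℕ) D := Classical.arbitrary _
    haveI : ((S : Subgroup D)).Normal := ⟨fun a ha g => by
      have : g * a * g⁻¹ = a := Subtype.ext (by
        show (g : X) * a * (g : X)⁻¹ = a
        rw [hDcomm g g.2 a a.2, mul_inv_cancel_right])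
      rwa [this]⟩
    have hle : ∀ U : Subgroup X, IsPGroup (p : ℕ) U → U ≤ D → U ≤ (S : Subgroup D).map D.subtype := by
      intro U hU hUD x hx
      have hq : IsPGroup (p : ℕ) ↥((S : Subgroup D) ⊔ U.subgroupOf D) :=
        S.2.to_sup_of_normal_left (hU.comap_of_injective _ Subtype.val_injective)
      have := S.3 hq le_sup_left
      exact ⟨⟨x, hUD hx⟩, this ▸ le_sup_right (a := (S : Subgroup D))
        (show (⟨x, hUD hx⟩ : D) ∈ U.subgroupOf D from hx), rfl⟩
    have hTD : (S : Subgroup D).map D.subtype ≤ D := map_subtype_le _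
    have hTP : (S : Subgroup D).map D.subtype ≤ P p := by
      refine hPle p _ (S.2.map _) fun x hx => ?_
      exact hle _ ((S.2.map _).map (φ : X →* X))
        (map_le_iff_le_comap.2 fun z hz => hDφ z (hTD hz)) (mem_map_of_mem _ hx)
    have hT : (S : Subgroup D).map D.subtype = D ⊓ P p := le_antisymm (le_inf hTD hTP)
      (hle _ ((hPp p).to_le inf_le_right) inf_le_left)
    rw [← hT, card_map_of_injective D.subtype_injective, S.card_eq_multiplicity]
  have hprodX : ∏ p : π, (p : ℕ) ^ (Nat.card X).factorization p = Nat.card X := by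
    rw [Finset.prod_coe_sort π (fun p => p ^ (Nat.card X).factorization p)]
    exact Nat.prod_factorization_pow_eq_self hn0
  have hprodD : ∏ p : π, (p : ℕ) ^ (Nat.card D).factorization p = Nat.card D := by
    rw [Finset.prod_coe_sort π (fun p => p ^ (Nat.card D).factorization p)]
    conv_rhs => rw [← Nat.prod_factorization_pow_eq_self (n := Nat.card D) Nat.card_pos.ne']
    refine (Finset.prod_subset ?_ fun q _ hq => ?_).symm
    · exact Nat.primeFactors_mono (card_subgroup_dvd_card D) hn0
    · rw [Finsupp.notMem_support_iff.1 hq, pow_zero]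
  have hΘ : Function.Bijective Θ := by
    refine (Nat.bijective_iff_injective_and_card Θ).2 ⟨hΘi, ?_⟩
    refine Nat.eq_of_mul_eq_mul_left (m := Nat.card {x : X // x ∈ I})
      (k := Nat.card ((p : π) → {x : X // x ∈ I ∧ x ∈ P p})) (Nat.card_pos (α := D)) ?_
    have h0 := hdec ⊤ (fun x _ => mem_top _)
    rw [inf_top_eq, Subgroup.card_top,
      Nat.card_congr (Equiv.subtypeEquivRight fun x => and_iff_left (mem_top x))] at h0
    rw [h0, Nat.card_pi]
    conv_lhs => rw [← hprodX]
    conv_rhs => rw [← hprodD, ← Finset.prod_mul_distrib]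
    exact Finset.prod_congr rfl fun p _ => by rw [← hDp, hdec _ (hPφ p), hPcard]
  -- elements of `I` of coprime order commute
  have hcomm : ∀ (p q : π), p ≠ q → ∀ y ∈ I, y ∈ P p → ∀ z ∈ I, z ∈ P q → Commute y z := by
    intro p q hpq y hy hyP z hz hzP
    have h1 : (1 : X) ∈ I := by show φ (φ 1) = 1⁻¹; simp
    obtain ⟨⟨x, hx⟩, hxe⟩ := hΘ.2 (Function.update (Function.update
      (fun r => (⟨1, h1, one_mem _⟩ : {x : X // x ∈ I ∧ x ∈ P r})) p ⟨y, hy, hyP⟩) q ⟨z, hz, hzP⟩)
    have e1 := congrArg Subtype.val (congrFun hxe p)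
    have e2 := congrArg Subtype.val (congrFun hxe q)
    simp only [Θ, Function.update_of_ne hpq, Function.update_self] at e1 e2
    rw [← e1, ← e2]
    exact Commute.pow_pow (Commute.refl x) _ _
  -- `X` is generated by `I`
  have hIgen : closure I = ⊤ := by
    have hxd : ∀ x : X, ∃ d ∈ D, ∃ i ∈ I, x = d * i := by
      intro x
      obtain ⟨k, hk⟩ := hodd
      let u : X := (φ (φ x))⁻¹ * x
      have hu : φ (φ u) = u⁻¹ := by
        simp only [u, map_mul, map_inv, h4, mul_inv_rev, inv_inv]
      have hi2 : u ^ (k + 1) * u ^ (k + 1) = u := by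
        rw [← pow_add, show k + 1 + (k + 1) = Nat.card X + 1 by omega, pow_succ, pow_card_eq_one',
          one_mul]
      have hiI : φ (φ (u ^ (k + 1))) = (u ^ (k + 1))⁻¹ := hIpow u hu _
      refine ⟨x * (u ^ (k + 1))⁻¹, ?_, _, hiI, (inv_mul_cancel_right _ _).symm⟩
      rw [memD, map_mul, map_mul, map_inv, map_inv, hiI, inv_inv]
      have e : φ (φ x) = x * u⁻¹ := by simp [u]
      rw [e]
      generalize u ^ (k + 1) = w at hi2
      rw [← hi2, mul_inv_rev, mul_assoc, mul_assoc, inv_mul_cancel, mul_one]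
    haveI hn : (closure I).Normal := by
      rw [← normalizer_eq_top_iff, eq_top_iff]
      intro x _
      obtain ⟨d, hd, i, hi, rfl⟩ := hxd x
      refine mul_mem ?_ (le_normalizer (subset_closure hi))
      have hcl : ∀ d ∈ D, ∀ w ∈ closure I, d * w * d⁻¹ ∈ closure I := by
        intro d hd w hw
        induction hw using closure_induction with
        | mem w hw =>
          refine subset_closure ?_
          show φ (φ (d * w * d⁻¹)) = (d * w * d⁻¹)⁻¹
          rw [map_mul, map_mul, map_mul, map_mul, map_inv, map_inv, hw, (memD d).1 hd]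
          group
        | one => simp
        | mul a b _ _ ha hb =>
          rw [show d * (a * b) * d⁻¹ = (d * a * d⁻¹) * (d * b * d⁻¹) by group]
          exact mul_mem ha hb
        | inv a _ ha =>
          rw [show d * a⁻¹ * d⁻¹ = (d * a * d⁻¹)⁻¹ by group]
          exact inv_mem ha
      rw [mem_normalizer_iff]
      intro w
      refine ⟨hcl d hd w, fun hw => ?_⟩
      have := hcl d⁻¹ (inv_mem hd) _ hw
      simpa [mul_assoc] using this
    rw [eq_top_iff, ← hperf, _root_.commutator_def, commutator_le]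
    intro a _ b _
    obtain ⟨d, hd, i, hi, rfl⟩ := hxd a
    obtain ⟨d', hd', i', hi', rfl⟩ := hxd b
    rw [← QuotientGroup.eq_one_iff]
    have hi1 := (QuotientGroup.eq_one_iff i).2 (subset_closure hi : i ∈ closure I)
    have hi1' := (QuotientGroup.eq_one_iff i').2 (subset_closure hi' : i' ∈ closure I)
    have hc : ((d : X ⧸ closure I)) * d' = d' * d := by
      rw [← QuotientGroup.mk_mul, ← QuotientGroup.mk_mul, hDcomm d hd d' hd']
    rw [commutatorElement_def]
    simp only [QuotientGroup.mk_mul, QuotientGroup.mk_inv, hi1, hi1', mul_one, one_mul, inv_one]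
    rw [hc, mul_inv_cancel_right, mul_inv_cancel]
  -- every such subgroup is central
  have hIall : ∀ x ∈ I, x ∈ center X := by
    intro x hx
    have hparts : ∀ (p : π) (y : X), y ∈ I → y ∈ P p → y ∈ center X := by
      intro p y hy hyP
      haveI : Fact (Nat.Prime p) := ⟨Nat.prime_of_mem_primeFactors p.2⟩
      let M : Subgroup X := closure {z | ∃ q, q ≠ p ∧ z ∈ I ∧ z ∈ P q}
      let C : Subgroup X := closure {z | z ∈ I ∧ z ∈ P p}
      have hCM : C ≤ centralizer (M : Set X) := by
        rw [centralizer_closure, closure_le]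
        rintro z ⟨hzI, hzP⟩ w ⟨q, hq, hwI, hwP⟩
        exact hcomm q p hq w hwI hwP z hzI hzP
      have htop : C ⊔ M = ⊤ := by
        rw [eq_top_iff, ← hIgen, closure_le]
        intro w hw
        have key : ∀ l : List π, w ^ (l.map e).sum ∈ C ⊔ M := by
          intro l
          induction l with
          | nil => simp
          | cons a l ih =>
            rw [List.map_cons, List.sum_cons, pow_add]
            refine mul_mem ?_ ih
            by_cases ha : a = p
            · subst ha
              exact le_sup_left (b := M) (subset_closure (hpart a w hw))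
            · exact le_sup_right (a := C) (subset_closure ⟨a, ha, hpart a w hw⟩)
        have h2 := key Finset.univ.toList
        rw [Finset.sum_map_toList] at h2
        have hsum : (Nat.card X).Coprime (∑ p : π, e p) := by
          refine Nat.coprime_of_dvd fun q hq hd hd' => ?_
          let q' : π := ⟨q, Nat.mem_primeFactors.2 ⟨hq, hd, hn0⟩⟩
          have hs : q ∣ e q' := by
            rw [← Finset.add_sum_erase _ _ (Finset.mem_univ q')] at hd'
            refine (Nat.dvd_add_left (Finset.dvd_sum fun r hr => ?_)).1 hd'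
            refine dvd_trans ?_ (Nat.modEq_zero_iff_dvd.1 (he0 r))
            rcases hq.dvd_mul.1 (((Nat.div_mul_cancel (Nat.ordProj_dvd (Nat.card X) (r : ℕ))).symm ▸
              hd : q ∣ Nat.card X / (r : ℕ) ^ (Nat.card X).factorization r *
                (r : ℕ) ^ (Nat.card X).factorization r)) with h | h
            · exact h
            · exact absurd ((Nat.prime_dvd_prime_iff_eq hq (Nat.prime_of_mem_primeFactors r.2)).1
                (hq.dvd_of_dvd_pow h)).symm (fun h' => (Finset.mem_erase.1 hr).1 (Subtype.ext h'))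
          have h1 : q ∣ q ^ (Nat.card X).factorization q :=
            dvd_pow_self q (hq.factorization_pos_of_dvd hn0 hd).ne'
          exact hq.not_dvd_one (((he1 q').dvd_iff h1).1 hs)
        have hw' : w ^ (∑ p : π, e p) ∈ C ⊔ M := h2
        obtain ⟨v, hv⟩ := (powCoprime (hsum.of_dvd_left (card_subgroup_dvd_card (zpowers w)))).surjective
          (⟨w, mem_zpowers w⟩ : zpowers w)
        obtain ⟨k, hk⟩ := mem_zpowers_iff.1 v.2
        have hv' : (v : X) ^ (∑ p : π, e p) = w := congrArg Subtype.val hv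
        rw [SetLike.mem_coe, ← hv', ← hk, ← zpow_natCast, ← zpow_mul, mul_comm, zpow_mul,
          zpow_natCast]
        exact zpow_mem hw' k
      haveI : M.Normal := by
        rw [← normalizer_eq_top_iff, eq_top_iff, ← htop]
        exact sup_le (hCM.trans (centralizer_le_normalizer _)) le_normalizer
      have hMtop : M = ⊤ := by
        have hCp : IsPGroup (p : ℕ) C := (hPp p).to_le ((closure_le _).2 fun z hz => hz.2)
        have hq : IsPGroup (p : ℕ) (X ⧸ M) := by
          have h := hCp.map (QuotientGroup.mk' M)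
          have e : C.map (QuotientGroup.mk' M) = ⊤ := by
            rw [eq_top_iff, ← map_top_of_surjective (QuotientGroup.mk' M)
              (QuotientGroup.mk'_surjective M), ← htop, Subgroup.map_sup, QuotientGroup.map_mk'_self, sup_bot_eq]
          rw [e] at h
          exact h.of_equiv topEquiv
        haveI := hq.isNilpotent
        by_contra hne
        haveI : Nontrivial (X ⧸ M) := QuotientGroup.nontrivial_iff.mpr hne
        refine (Group.IsSolvable.commutator_lt_top_of_nontrivial (X ⧸ M)).ne ?_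
        rw [_root_.commutator_def, ← map_top_of_surjective (QuotientGroup.mk' M)
          (QuotientGroup.mk'_surjective M), ← map_commutator, ← _root_.commutator_def, hperf]
      rw [mem_center_iff]
      intro w
      exact mem_centralizer_iff.1 (hCM (subset_closure ⟨hy, hyP⟩)) w (hMtop ▸ mem_top w)
    have hc : ∀ w : X, Commute w x := by
      intro w
      refine Commute.symm ?_
      have h := hS (w * x * w⁻¹) x fun p => by
        rw [conj_pow, mem_center_iff.1 (hparts p _ (hpart p x hx).1 (hpart p x hx).2) w,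
          mul_inv_cancel_right]
      exact (mul_inv_eq_iff_eq_mul.1 h).symm
    exact mem_center_iff.2 fun w => hc w
  have hcen : center X = ⊤ := by
    rw [eq_top_iff, ← hIgen, closure_le]
    exact hIall
  have : commutator X = ⊥ := by
    rw [_root_.commutator_def, commutator_eq_bot_iff_le_centralizer, coe_top, centralizer_univ, hcen]
  rw [hperf] at this
  exact Subgroup.subsingleton_iff.1 (subsingleton_of_bot_eq_top this.symm)

end CfsgLib.Char.OneNonzero
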