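import Cfsg.Agent.Lib.Char.OneNonzero.LayerOdd
import Cfsg.Agent.Lib.Coprime.PGroupFrattini

/-!
A `2`-group `S` with normal subgroups `Q < P`, `|P : Q| = 2`, all commutators in `P`, every
element outside `P` having a commutator in `P \ Q`, and one class `g Q`: then `g ^ 4 = 1`.
-/

set_option autoImplicit false

namespace CfsgLib.Char.OneNonzero

open Subgroup
open scoped commutatorElement

universe u

variable {S : Type u} [Group S] [Finite S]

theorem pow_four_eq_one (hS : IsPGroup 2 S) (P Q : Subgroup S) [P.Normal] [Q.Normal] (hQP : Q ≤ P)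
    (hidx : ∀ x y : S, x ∈ P → x ∉ Q → y ∈ P → y ∉ Q → x⁻¹ * y ∈ Q) {g : S} (hgP : g ∈ P)
    (hgQ : g ∉ Q) (hcls : ∀ q ∈ Q, ∃ a, a * g * a⁻¹ = g * q) (hcomm : ∀ a b : S, ⁅a, b⁆ ∈ P)
    (hpartner : ∀ a, a ∉ P → ∃ b, ⁅a, b⁆ ∉ Q) : g ^ 4 = 1 := by
  classical
  haveI : Fact (Nat.Prime 2) := ⟨Nat.prime_two⟩
  haveI hQn : Q.Normal := inferInstance
  have hsqP : ∀ x ∈ P, x * x ∈ Q := by
    intro x hx
    by_cases hxQ : x ∈ Q
    · exact mul_mem hxQ hxQ
    · simpa using hidx x⁻¹ x (inv_mem hx) (fun h => hxQ (by simpa using inv_mem h)) hx hxQ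
  have hconjQ : ∀ a z : S, z ∈ P → a * z * a⁻¹ * z ∈ Q := by
    intro a z hz
    have h1 := ‹P.Normal›.conj_mem z hz a
    by_cases hzQ : z ∈ Q
    · exact mul_mem (hQn.conj_mem z hzQ a) hzQ
    · have h2 : a * z * a⁻¹ ∉ Q := fun h => hzQ (by simpa [mul_assoc] using hQn.conj_mem _ h a⁻¹)
      simpa using hidx (a * z * a⁻¹)⁻¹ z (inv_mem h1) (fun h => h2 (by simpa using inv_mem h)) hz hzQ
  have ha2 : ∀ a : S, a * a ∈ P := by
    intro a
    by_contra ha
    obtain ⟨b, hb⟩ := hpartner _ ha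
    refine hb ?_
    rw [commutatorElement_mul_left_eq_conj_mul]
    exact hconjQ a _ (hcomm a b)
  have hgg : g ^ 2 ∈ Q := by rw [sq]; exact hsqP g hgP
  set U : Subgroup S := normalClosure ({g ^ 2} : Set S) with hU
  have hUQ : U ≤ Q := normalClosure_le_normal (Set.singleton_subset_iff.2 hgg)
  haveI : U.Normal := normalClosure_normal
  rcases hUQ.eq_or_lt with hUe | hUlt
  · -- `P` is cyclic
    have hPgen : ∀ x ∈ P, x ∈ zpowers g := by
      let F : Subgroup S := (frattini P).map P.subtype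
      haveI hFn : F.Normal := by
        haveI := frattini_characteristic (G := P)
        exact inferInstance
      have hUF : U ≤ F := normalClosure_le_normal (Set.singleton_subset_iff.2
        ⟨⟨g, hgP⟩ ^ 2, CfsgLib.Coprime.pow_mem_frattini (hS.to_subgroup P) _, rfl⟩)
      have htop : zpowers (⟨g, hgP⟩ : P) ⊔ frattini P = ⊤ := by
        rw [eq_top_iff]
        rintro ⟨x, hx⟩ -
        have hF : ∀ q, (hq : q ∈ Q) → (⟨q, hQP hq⟩ : P) ∈ frattini P := by
          intro q hq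
          obtain ⟨y, hy, e⟩ := hUF (hUe.ge hq)
          have : y = ⟨q, hQP hq⟩ := Subtype.ext e
          exact this ▸ hy
        by_cases hxQ : x ∈ Q
        · exact le_sup_right (a := zpowers (⟨g, hgP⟩ : P)) (hF x hxQ)
        · have h := mul_mem_sup (mem_zpowers (⟨g, hgP⟩ : P)) (hF _ (hidx g x hgP hgQ hx hxQ))
          have e : (⟨g, hgP⟩ : P) * ⟨g⁻¹ * x, hQP (hidx g x hgP hgQ hx hxQ)⟩ = ⟨x, hx⟩ :=
            Subtype.ext (mul_inv_cancel_left g x)
          rwa [e] at h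
      have h2 := frattini_nongenerating htop
      intro x hx
      have hx' : (⟨x, hx⟩ : P) ∈ zpowers (⟨g, hgP⟩ : P) := h2 ▸ mem_top _
      obtain ⟨k, hk⟩ := mem_zpowers_iff.1 hx'
      exact mem_zpowers_iff.2 ⟨k, congrArg Subtype.val hk⟩
    by_contra hg4
    have h8 : 8 ∣ orderOf g := by
      obtain ⟨k, hk⟩ := IsPGroup.iff_orderOf.1 hS g
      rcases Nat.lt_or_ge k 3 with h | h
      · refine absurd ?_ hg4
        rw [← orderOf_dvd_iff_pow_eq_one, hk]
        exact pow_dvd_pow 2 (show k ≤ 2 by omega)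
      · rw [hk]; exact pow_dvd_pow 2 h
    have h8' : (8 : ℤ) ∣ (orderOf g : ℤ) := by exact_mod_cast h8
    obtain ⟨a, ha⟩ := hcls (g ^ 4) (by rw [show (4 : ℕ) = 2 * 2 from rfl, pow_mul]; exact pow_mem hgg 2)
    rw [← pow_succ'] at ha
    have haP : a ∉ P := by
      intro h
      obtain ⟨i, rfl⟩ := mem_zpowers_iff.1 (hPgen a h)
      rw [((Commute.refl g).zpow_left i).eq, mul_inv_cancel_right] at ha
      refine hg4 ?_
      rw [pow_succ'] at ha
      exact left_eq_mul.1 ha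
    obtain ⟨b, hb⟩ := hpartner a haP
    obtain ⟨u, hu⟩ := mem_zpowers_iff.1 (hPgen _ (hcomm a b))
    obtain ⟨v, hv⟩ := mem_zpowers_iff.1 (hPgen _ (‹P.Normal›.conj_mem g hgP b))
    obtain ⟨j, hj⟩ := mem_zpowers_iff.1 (hPgen _ (ha2 a))
    have hodd : ∀ i : ℤ, g ^ i ∉ Q → ¬ 2 ∣ i := by
      rintro i hi ⟨c, rfl⟩
      refine hi ?_
      rw [zpow_mul, show g ^ (2 : ℤ) = g ^ 2 from zpow_natCast g 2]
      exact zpow_mem hgg c
    have hu' := hodd u (hu ▸ hb)
    have hv' : ¬ 2 ∣ v := hodd v (by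
      rw [hv]; exact fun h => hgQ (by simpa [mul_assoc] using hQn.conj_mem _ h b⁻¹))
    have hact : ∀ i : ℤ, a * g ^ i * a⁻¹ = g ^ (5 * i) := fun i => by
      rw [← conj_zpow, ha, show g ^ (4 + 1) = g ^ (5 : ℤ) from (zpow_natCast g 5).symm, ← zpow_mul]
    have hactb : ∀ i : ℤ, b * g ^ i * b⁻¹ = g ^ (v * i) := fun i => by
      rw [← conj_zpow, ← hv, ← zpow_mul]
    have e1 : g ^ j = g ^ (5 * j) := by
      rw [← hact, hj]; group
    have e2 : g ^ (j + v * -j) = g ^ (5 * u + u) := by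
      rw [zpow_add, zpow_add, ← hactb, ← hact, hu, zpow_neg, hj]
      simp only [commutatorElement_def]
      group
    have d1 := h8'.trans ((orderOf_dvd_sub_iff_zpow_eq_zpow).2 e1)
    have d2 := h8'.trans ((orderOf_dvd_sub_iff_zpow_eq_zpow).2 e2)
    obtain ⟨c1, hc1⟩ := d1
    obtain ⟨c2, hc2⟩ := d2
    obtain ⟨v₂, hv₂⟩ : ∃ c, v = 2 * c + 1 := ⟨v / 2, by omega⟩
    obtain ⟨j₂, hj₂⟩ : ∃ c, j = 2 * c := ⟨-c1, by omega⟩
    subst hv₂
    subst hj₂
    ring_nf at hc2
    generalize hm : j₂ * v₂ = m at hc2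
    omega
  · exfalso
    -- a central step above `U`
    let η := QuotientGroup.mk' U
    haveI : (Q.map η).Normal := Normal.map inferInstance _ (QuotientGroup.mk'_surjective U)
    have hne : Q.map η ≠ ⊥ := fun h => hUlt.not_ge fun q hq =>
      (QuotientGroup.eq_one_iff q).1 ((eq_bot_iff_forall _).1 h _ (mem_map_of_mem _ hq))
    obtain ⟨N, _, z, hN, -, hzc, hLz, -⟩ := exists_central_step (hS.to_quotient U) (Q.map η) hne
    let ρ : S →* (S ⧸ U) ⧸ N := (QuotientGroup.mk' N).comp η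
    have hρc : ∀ q ∈ Q, ∀ w, Commute (ρ q) w := fun q hq w =>
      (mem_center_iff.1 (zpowers_le.2 hzc (hLz _ (mem_map_of_mem _ hq))) w).symm
    have hsq1 : ∀ z ∈ P, z ∉ Q → ρ z * ρ z = 1 := by
      intro z hz hzQ
      obtain ⟨c, hc⟩ := hcls _ (hidx g z hgP hgQ hz hzQ)
      rw [mul_inv_cancel_left] at hc
      have hzU : z ^ 2 ∈ U := by
        rw [← hc, conj_pow]
        exact (inferInstance : U.Normal).conj_mem _ (subset_normalClosure rfl) c
      rw [← map_mul, ← sq]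
      show QuotientGroup.mk' N (η (z ^ 2)) = 1
      rw [show η (z ^ 2) = 1 from (QuotientGroup.eq_one_iff _).2 hzU, map_one]
    have hfix : ∀ a : S, Commute (ρ a) (ρ g) := by
      intro a
      -- it suffices to fix one element of `P \ Q`
      suffices h : ∃ z ∈ P, z ∉ Q ∧ Commute (ρ a) (ρ z) by
        obtain ⟨z, hz, hzQ, hc⟩ := h
        rw [← mul_inv_cancel_left z g, map_mul]
        exact hc.mul_right (hρc _ (hidx z g hz hzQ hgP hgQ) _).symm
      by_cases haP : a ∈ P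
      · by_cases haQ : a ∈ Q
        · exact ⟨g, hgP, hgQ, hρc a haQ _⟩
        · exact ⟨a, haP, haQ, Commute.refl _⟩
      by_cases ha2Q : a * a ∈ Q
      · obtain ⟨b, hb⟩ := hpartner a haP
        refine ⟨⁅a, b⁆, hcomm a b, hb, ?_⟩
        have h1 : ρ ⁅a * a, b⁆ = 1 := by
          rw [map_commutatorElement, commutatorElement_eq_one_iff_commute]
          exact hρc _ ha2Q _
        rw [commutatorElement_mul_left_eq_conj_mul, map_mul, map_mul, map_mul, map_inv] at h1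
        have h2 : ρ a * ρ ⁅a, b⁆ * (ρ a)⁻¹ = ρ ⁅a, b⁆ :=
          (eq_inv_of_mul_eq_one_left h1).trans
            (eq_inv_of_mul_eq_one_left (hsq1 _ (hcomm a b) hb)).symm
        exact mul_inv_eq_iff_eq_mul.1 h2
      · exact ⟨a * a, ha2 a, ha2Q, by rw [map_mul]; exact (Commute.refl _).mul_right (Commute.refl _)⟩
    refine hN.not_ge ?_
    rintro _ ⟨q, hq, rfl⟩
    refine (QuotientGroup.eq_one_iff (η q)).1 ?_
    obtain ⟨a, ha⟩ := hcls q hq
    have h := congrArg ρ ha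
    rw [map_mul, map_mul, map_inv, map_mul, (hfix a).eq, mul_inv_cancel_right] at h
    show ρ q = 1
    exact left_eq_mul.1 h

end CfsgLib.Char.OneNonzero
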