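import Cfsg.Agent.Lib.Coprime.Solvable
import Mathlib.GroupTheory.Perm.Cycle.Type
import Mathlib.GroupTheory.Commutator.Basic

/-!
`p` odd: a `p`-group `P` with a normal subgroup `Q ≠ P` such that the commutators of each element
outside `Q` cover `Q`, and an automorphism of `2`-power order inverting `P / Q`, has an element of
order `p` outside `Q`.
-/

set_option autoImplicit false

namespace CfsgLib.Char.OneNonzero

open Subgroup
open scoped commutatorElement

universe u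

variable {P : Type u} [Group P] [Finite P] {p : ℕ} [hp : Fact p.Prime]

/-- A normal subgroup maximal below `L`: the quotient is central of order `p`. -/
theorem exists_central_step (hP : IsPGroup p P) (L : Subgroup P) [L.Normal] (hL : L ≠ ⊥) :
    ∃ (N : Subgroup P) (_ : N.Normal) (z : P ⧸ N), N < L ∧ orderOf z = p ∧ z ∈ center (P ⧸ N) ∧
      (∀ l ∈ L, (QuotientGroup.mk l : P ⧸ N) ∈ zpowers z) ∧ z ∈ L.map (QuotientGroup.mk' N) := by
  obtain ⟨N, hN⟩ := (Set.toFinite {N : Subgroup P | N.Normal ∧ N < L}).exists_maximal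
    ⟨⊥, inferInstance, bot_lt_iff_ne_bot.2 hL⟩
  haveI := hN.1.1
  haveI hQn : Group.IsNilpotent (P ⧸ N) := (hP.to_quotient N).isNilpotent
  set Lb : Subgroup (P ⧸ N) := L.map (QuotientGroup.mk' N) with hLb
  haveI : Lb.Normal := Normal.map inferInstance _ (QuotientGroup.mk'_surjective N)
  have hLb0 : Lb ≠ ⊥ := fun h => hN.1.2.not_ge fun x hx =>
    (QuotientGroup.eq_one_iff x).1 ((eq_bot_iff_forall _).1 h _ (mem_map_of_mem _ hx))
  obtain ⟨⟨w, hw⟩, hw1⟩ :=
    ne_bot_iff_exists_ne_one.1 (CfsgLib.Coprime.nilpotent_inf_center_ne_bot Lb hLb0)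
  obtain ⟨k, hk⟩ := IsPGroup.iff_orderOf.1 (hP.to_quotient N) w
  have hk0 : k ≠ 0 := fun h => hw1 (Subtype.ext (orderOf_eq_one_iff.1 (by rw [hk, h, pow_zero])))
  set z := w ^ p ^ (k - 1) with hz
  have hzp : orderOf z = p := by
    rw [hz, orderOf_pow' w (pow_ne_zero _ hp.out.ne_zero), hk, Nat.gcd_eq_right (pow_dvd_pow p (Nat.sub_le _ _)),
      Nat.pow_div (Nat.sub_le _ _) hp.out.pos, show k - (k - 1) = 1 by omega, pow_one]
  have hzc : z ∈ center (P ⧸ N) := pow_mem hw.2 _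
  have hzL : z ∈ Lb := pow_mem hw.1 _
  refine ⟨N, inferInstance, z, hN.1.2, hzp, hzc, fun l hl => ?_, hzL⟩
  haveI : (zpowers z).Normal := ⟨fun a ha b => by
    have hac : a ∈ center (P ⧸ N) := (zpowers_le.2 hzc) ha
    rwa [mem_center_iff.1 hac b, mul_inv_cancel_right]⟩
  set M := (zpowers z).comap (QuotientGroup.mk' N) with hM
  have hNM : N ≤ M := fun x hx => by
    show QuotientGroup.mk' N x ∈ zpowers z
    rw [show QuotientGroup.mk' N x = 1 from (QuotientGroup.eq_one_iff x).2 hx]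
    exact one_mem _
  have hML : M ≤ L := by
    intro x hx
    have : QuotientGroup.mk' N x ∈ Lb := zpowers_le.2 hzL hx
    obtain ⟨y, hy, hxy⟩ := this
    have := QuotientGroup.eq.1 hxy
    simpa using mul_mem hy (hN.1.2.le this)
  rcases hML.eq_or_lt with e | hlt
  · exact (e.ge hl : l ∈ M)
  · exfalso
    obtain ⟨y, -, hy⟩ := hzL
    have hyN : y ∈ N := hN.2 ⟨inferInstance, hlt⟩ hNM (show QuotientGroup.mk' N y ∈ zpowers z from
      hy ▸ mem_zpowers z)
    have : z = 1 := by rw [← hy]; exact (QuotientGroup.eq_one_iff y).2 hyN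
    rw [this, orderOf_one] at hzp
    exact hp.out.one_lt.ne hzp

/-- A nonconstant homomorphism into a group of order `p` has kernel of index `p`. -/
theorem card_ker_mul {A B : Type*} [Group A] [Finite A] [Group B] (f : A →* B) (z : B)
    (hz : orderOf z = p) (hf : ∀ a, f a ∈ zpowers z) (hne : ∃ a, f a ≠ 1) :
    Nat.card f.ker * p = Nat.card A := by
  have hle : f.range ≤ zpowers z := by rintro _ ⟨a, rfl⟩; exact hf a
  have hdvd := card_dvd_of_le hle
  rw [Nat.card_zpowers, hz] at hdvd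
  have hr : Nat.card f.range = p := by
    refine (hp.out.eq_one_or_self_of_dvd _ hdvd).resolve_left fun h => ?_
    obtain ⟨a, ha⟩ := hne
    rw [card_eq_one] at h
    exact ha ((eq_bot_iff_forall _).1 h _ ⟨a, rfl⟩)
  rw [← hr, ← Nat.card_congr (QuotientGroup.quotientKerEquivRange f).toEquiv, ← index_eq_card,
    card_mul_index]

/-- An element inverted by `ι` in every coset of `Q`. -/
theorem exists_inverted (hP : IsPGroup p P) (hp2 : p ≠ 2) (Q : Subgroup P) [Q.Normal] (ι : P ≃* P)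
    {j : ℕ} (hj : ∀ x, (ι : P → P)^[2 ^ j] x = x) (hι : ∀ x, ι x * x ∈ Q) (x : P) :
    ∃ y, x⁻¹ * y ∈ Q ∧ ι y = y⁻¹ := by
  classical
  haveI : Fact (Nat.Prime 2) := ⟨Nat.prime_two⟩
  let f : {y : P // x⁻¹ * y ∈ Q} → {y : P // x⁻¹ * y ∈ Q} := fun y => ⟨(ι y)⁻¹, by
    have h1 := hι (y : P)
    have h2 : (y : P) * (ι y * y)⁻¹ * (y : P)⁻¹ ∈ Q := (inferInstance : Q.Normal).conj_mem _ (inv_mem h1) _
    have h3 := mul_mem y.2 (inv_mem h1)
    have h4 : (y : P)⁻¹ * (ι y)⁻¹ ∈ Q := by simpa using inv_mem h1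
    have h5 : x⁻¹ * (ι y)⁻¹ = x⁻¹ * y * ((y : P)⁻¹ * (ι y)⁻¹) := by group
    rw [h5]
    exact mul_mem y.2 h4⟩
  have hit : ∀ (k : ℕ) (y : {y : P // x⁻¹ * y ∈ Q}),
      ((f^[k] y : {y : P // x⁻¹ * y ∈ Q}) : P) =
        if k % 2 = 0 then (ι : P → P)^[k] (y : P) else ((ι : P → P)^[k] (y : P))⁻¹ := by
    intro k
    induction k with
    | zero => intro y; rfl
    | succ k ih =>
      intro y
      rw [Function.iterate_succ_apply', Function.iterate_succ_apply']
      show (ι _)⁻¹ = _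
      rw [ih y]
      rcases Nat.mod_two_eq_zero_or_one k with h | h
      · rw [if_pos h, if_neg (by omega)]
      · rw [if_neg (by omega), if_pos (by omega), map_inv, inv_inv]
  have hper : ∀ y, f^[2 ^ (j + 1)] y = y := fun y => Subtype.ext (by
    rw [hit, if_pos (by rw [pow_succ, Nat.mul_mod_left]), pow_succ, Function.iterate_mul]
    exact Function.iterate_fixed (hj _) _)
  let σ : Equiv.Perm {y : P // x⁻¹ * y ∈ Q} :=
    ⟨f, f^[2 ^ (j + 1) - 1], fun y => by
      rw [← Function.iterate_succ_apply f (2 ^ (j + 1) - 1) y, Nat.succ_eq_add_one,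
        Nat.sub_add_cancel Nat.one_le_two_pow]
      exact hper y, fun y => by
      rw [← Function.iterate_succ_apply' f (2 ^ (j + 1) - 1) y, Nat.succ_eq_add_one,
        Nat.sub_add_cancel Nat.one_le_two_pow]
      exact hper y⟩
  have hσ : σ ^ 2 ^ (j + 1) = 1 := Equiv.ext fun y => by
    rw [← Equiv.Perm.iterate_eq_pow]
    exact hper y
  haveI := Fintype.ofFinite {y : P // x⁻¹ * y ∈ Q}
  have hcard : Odd (Fintype.card {y : P // x⁻¹ * y ∈ Q}) := by
    rw [← Nat.card_eq_fintype_card]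
    have : Nat.card {y : P // x⁻¹ * y ∈ Q} = Nat.card Q :=
      Nat.card_congr ((Equiv.mulLeft x⁻¹).subtypeEquiv fun y => Iff.rfl)
    rw [this]
    obtain ⟨k, hk⟩ := IsPGroup.iff_card.1 (hP.to_subgroup Q)
    rw [hk]
    exact (hp.out.odd_of_ne_two hp2).pow
  have h := Equiv.Perm.card_compl_support_modEq hσ
  have hne : σ.supportᶜ.Nonempty := by
    rw [← Finset.card_pos]
    rw [Nat.ModEq, Nat.odd_iff.1 hcard] at h
    omega
  obtain ⟨y, hy⟩ := hne
  rw [Finset.mem_compl, Equiv.Perm.mem_support, not_not] at hy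
  refine ⟨y, y.2, ?_⟩
  have := congrArg Subtype.val hy
  have h' : (ι (y : P))⁻¹ = y := this
  exact inv_eq_iff_eq_inv.1 h'

theorem exists_order_p (hP : IsPGroup p P) (hp2 : p ≠ 2) (Q : Subgroup P) [Q.Normal] (hQ : Q ≠ ⊤)
    (hcomm : ∀ x y : P, ⁅x, y⁆ ∈ Q) (hpow : ∀ x : P, x ^ p ∈ Q)
    (hcam : ∀ x : P, x ∉ Q → ∀ q ∈ Q, ∃ y, ⁅x, y⁆ = q) (ι : P ≃* P) {j : ℕ}
    (hj : ∀ x, (ι : P → P)^[2 ^ j] x = x) (hι : ∀ x, ι x * x ∈ Q) :
    ∃ x : P, x ∉ Q ∧ x ^ p = 1 := by
  classical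
  haveI := Fintype.ofFinite P
  obtain ⟨a₀, -, ha₀⟩ := SetLike.exists_of_lt (lt_top_iff_ne_top.2 hQ)
  have hQgen : ∀ q ∈ Q, ∃ a b : P, ⁅a, b⁆ = q := fun q hq => ⟨a₀, hcam a₀ ha₀ q hq⟩
  set L : Subgroup P := ⁅Q, (⊤ : Subgroup P)⁆ with hLdef
  have hLmem : ∀ q ∈ Q, ∀ v : P, ⁅q, v⁆ ∈ L := fun q hq v => commutator_mem_commutator hq (mem_top v)
  -- `ι` fixes `Q` modulo `L`
  have hfixQ : ∀ (R : Subgroup P) [R.Normal], (∀ q ∈ Q, ∀ v : P, ⁅q, v⁆ ∈ R) → ∀ q ∈ Q,
      (QuotientGroup.mk (ι q) : P ⧸ R) = QuotientGroup.mk q := by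
    intro R _ hR q hq
    obtain ⟨a, b, rfl⟩ := hQgen q hq
    have hc : ∀ q' ∈ Q, ∀ w : P ⧸ R, Commute (QuotientGroup.mk' R q') w := by
      intro q' hq' w
      obtain ⟨v, rfl⟩ := QuotientGroup.mk_surjective w
      rw [← commutatorElement_eq_one_iff_commute]
      exact (map_commutatorElement (QuotientGroup.mk' R) q' v).symm.trans
        ((QuotientGroup.eq_one_iff _).2 (hR q' hq' v))
    have e1 : ι ⁅a, b⁆ = ⁅ι a, ι b⁆ := map_commutatorElement _ _ _
    set A : P ⧸ R := QuotientGroup.mk' R a with hA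
    set B : P ⧸ R := QuotientGroup.mk' R b with hB
    obtain ⟨qa, hqa, ea⟩ : ∃ qa ∈ Q, ι a = qa * a⁻¹ :=
      ⟨ι a * a, hι a, by rw [mul_inv_cancel_right]⟩
    obtain ⟨qb, hqb, eb⟩ : ∃ qb ∈ Q, ι b = qb * b⁻¹ :=
      ⟨ι b * b, hι b, by rw [mul_inv_cancel_right]⟩
    rw [e1, ea, eb]
    show QuotientGroup.mk' R ⁅qa * a⁻¹, qb * b⁻¹⁆ = QuotientGroup.mk' R ⁅a, b⁆
    rw [map_commutatorElement, map_commutatorElement, map_mul, map_mul, map_inv, map_inv]
    have c1 := hc qa hqa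
    have c2 := hc qb hqb
    have c3 : ∀ w, Commute ⁅A, B⁆ w := fun w =>
      (map_commutatorElement (QuotientGroup.mk' R) a b) ▸ hc _ (hcomm a b) w
    calc ⁅QuotientGroup.mk' R qa * A⁻¹, QuotientGroup.mk' R qb * B⁻¹⁆
        = ⁅A⁻¹, B⁻¹⁆ := by
          have d1 : ∀ w, QuotientGroup.mk' R qa * w * (QuotientGroup.mk' R qa)⁻¹ = w := fun w => by
            rw [(c1 w).eq, mul_inv_cancel_right]
          rw [commutatorElement_mul_left_eq_conj_mul, d1,
            commutatorElement_eq_one_iff_commute.2 (c1 _), mul_one,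
            commutatorElement_mul_right_eq_mul_conj,
            commutatorElement_eq_one_iff_commute.2 (c2 _).symm, one_mul]
          show QuotientGroup.mk' R qb * ⁅A⁻¹, B⁻¹⁆ * (QuotientGroup.mk' R qb)⁻¹ = _
          rw [(c2 _).eq, mul_inv_cancel_right]
      _ = (B * A)⁻¹ * ⁅A, B⁆ * (B * A) := by simp [commutatorElement_def, mul_assoc]
      _ = ⁅A, B⁆ := by rw [mul_assoc, (c3 (B * A)).eq, inv_mul_cancel_left]
  by_cases hL : L = ⊥
  · -- class two
    obtain ⟨x, hx, hxi⟩ := exists_inverted hP hp2 Q ι hj hι a₀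
    have hxQ : x ∉ Q := fun h => ha₀ (by simpa using mul_mem h (inv_mem hx))
    refine ⟨x, hxQ, ?_⟩
    have h := hfixQ (⊥ : Subgroup P) (fun q hq v => hL ▸ hLmem q hq v) _ (hpow x)
    have h' : ι (x ^ p) = x ^ p := by
      have := QuotientGroup.eq.1 h
      rw [mem_bot, inv_mul_eq_one] at this
      exact this
    rw [map_pow, hxi, inv_pow, inv_eq_iff_mul_eq_one, ← sq] at h'
    obtain ⟨k, hk⟩ := IsPGroup.iff_orderOf.1 hP (x ^ p)
    have h2 : orderOf (x ^ p) ∣ 2 := orderOf_dvd_of_pow_eq_one h'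
    rw [hk] at h2
    rcases Nat.eq_zero_or_pos k with rfl | hk0
    · exact orderOf_eq_one_iff.1 (by rw [hk, pow_zero])
    · exact absurd ((Nat.prime_dvd_prime_iff_eq hp.out Nat.prime_two).1
        ((dvd_pow_self p hk0.ne').trans h2)) hp2
  exfalso
  haveI : L.Normal := commutator_normal Q ⊤
  obtain ⟨N, _, z, hNL, hzp, hzc, hLz, -⟩ := exists_central_step hP L hL
  let π := QuotientGroup.mk' N
  have hcL : ∀ l ∈ L, ∀ w : P ⧸ N, Commute (π l) w := fun l hl w =>
    (mem_center_iff.1 (zpowers_le.2 hzc (hLz l hl)) w).symm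
  have hpz : ∀ l ∈ L, π l ^ p = 1 := fun l hl => by
    obtain ⟨k, hk⟩ := mem_zpowers_iff.1 (hLz l hl)
    show (QuotientGroup.mk l : P ⧸ N) ^ p = 1
    rw [← hk, ← zpow_natCast, ← zpow_mul, mul_comm, zpow_mul, zpow_natCast, ← hzp, pow_orderOf_eq_one,
      one_zpow]
  -- the pairing
  have hleft : ∀ q ∈ Q, ∀ a b : P, π ⁅q, a * b⁆ = π ⁅q, a⁆ * π ⁅q, b⁆ := by
    intro q hq a b
    rw [commutatorElement_mul_right_eq_mul_conj, map_mul, map_mul, map_mul, map_inv]
    rw [mul_assoc, mul_assoc, ← mul_assoc (π a), ← (hcL _ (hLmem q hq b) (π a)).eq,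
      mul_assoc, mul_inv_cancel, mul_one]
  have hright : ∀ q ∈ Q, ∀ q' ∈ Q, ∀ v : P, π ⁅q * q', v⁆ = π ⁅q, v⁆ * π ⁅q', v⁆ := by
    intro q hq q' hq' v
    rw [commutatorElement_mul_left_eq_conj_mul, map_mul, map_mul, map_mul, map_inv,
      ← (hcL _ (hLmem q' hq' v) (π q)).eq, mul_inv_cancel_right,
      (hcL _ (hLmem q' hq' v) _).eq]
  let F : Q → (P →* P ⧸ N) := fun q => MonoidHom.mk' (fun v => π ⁅(q : P), v⁆) (hleft q q.2)
  let F' : P → (Q →* P ⧸ N) := fun v =>
    MonoidHom.mk' (fun q : Q => π ⁅(q : P), v⁆) fun a b => hright a a.2 b b.2 v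
  have hFQ : ∀ q ∈ Q, ∀ q' ∈ Q, π ⁅q, q'⁆ = 1 := by
    intro q hq q' hq'
    obtain ⟨a, b, rfl⟩ := hQgen q' hq'
    show F ⟨q, hq⟩ ⁅a, b⁆ = 1
    rw [map_commutatorElement, commutatorElement_eq_one_iff_commute]
    exact hcL _ (hLmem q hq a) _
  -- `ι` inverts `L` modulo `N` and fixes commutators of inverted elements
  have hιQ : ∀ x ∈ Q, ι x ∈ Q := fun x hx => by
    simpa using mul_mem (hι x) (inv_mem hx)
  have hιL : ∀ l ∈ L, ι l ∈ L ∧ π (ι l) = (π l)⁻¹ := by
    intro l hl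
    rw [hLdef, Subgroup.commutator_def] at hl
    induction hl using closure_induction with
    | mem w hw =>
      obtain ⟨q, hq, v, -, rfl⟩ := hw
      rw [map_commutatorElement]
      refine ⟨hLmem _ (hιQ q hq) _, ?_⟩
      have hlq : q⁻¹ * ι q ∈ L := by
        have := QuotientGroup.eq.1 (hfixQ L hLmem q hq).symm
        exact this
      have e1 : ι q = q * (q⁻¹ * ι q) := (mul_inv_cancel_left _ _).symm
      have e2 : π ⁅ι q, ι v⁆ = π ⁅q, ι v⁆ := by
        rw [map_commutatorElement, map_commutatorElement, e1, map_mul,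
          commutatorElement_mul_left_eq_conj_mul,
          commutatorElement_eq_one_iff_commute.2 (hcL _ hlq (π (ι v))), mul_one, mul_inv_cancel,
          one_mul]
      rw [e2]
      refine eq_inv_of_mul_eq_one_left ?_
      rw [← hleft q hq]
      exact hFQ q hq _ (hι v)
    | one => simp
    | mul a b ha hb iha ihb =>
      have hbL : b ∈ L := by rw [hLdef, Subgroup.commutator_def]; exact hb
      rw [map_mul, map_mul, map_mul, iha.2, ihb.2, mul_inv_rev]
      exact ⟨mul_mem iha.1 ihb.1, ((hcL b hbL _).inv_left).eq.symm⟩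
    | inv a ha iha =>
      rw [map_inv, map_inv, map_inv, iha.2]
      exact ⟨inv_mem iha.1, rfl⟩
  -- every element outside `Q` pairs nontrivially
  have hnd : ∀ x : P, x ∉ Q → ∃ q : Q, F' x q ≠ 1 := by
    intro x hx
    obtain ⟨x₀, hx₀, hx₀i⟩ := exists_inverted hP hp2 Q ι hj hι x
    have hx₀Q : x₀ ∉ Q := fun h => hx (by simpa using mul_mem h (inv_mem hx₀))
    suffices h : ∃ q : Q, F' x₀ q ≠ 1 by
      obtain ⟨q, hq⟩ := h
      refine ⟨q, fun h => hq ?_⟩
      show π ⁅(q : P), x₀⁆ = 1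
      rw [← mul_inv_cancel_left x x₀, hleft q q.2, hFQ _ q.2 _ hx₀, mul_one]
      exact h
    obtain ⟨l, hl, hlN⟩ := SetLike.exists_of_lt hNL
    obtain ⟨q₀, v₀, -⟩ := hQgen 1 (one_mem Q)
    have hlQ : l ∈ Q := (commutator_le_left Q ⊤) hl
    obtain ⟨y, hy⟩ := hcam x₀ hx₀Q l hlQ
    obtain ⟨y₀, hy₀, hy₀i⟩ := exists_inverted hP hp2 Q ι hj hι y
    refine ⟨⟨y⁻¹ * y₀, hy₀⟩, fun h => hlN ((QuotientGroup.eq_one_iff l).1 ?_)⟩
    have hc : ⁅x₀, y₀⁆ = ⁅x₀, y⁆ * y * ⁅x₀, y⁻¹ * y₀⁆ * y⁻¹ := by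
      rw [← commutatorElement_mul_right_eq_mul_conj, mul_inv_cancel_left]
    have hswap : ⁅x₀, y⁻¹ * y₀⁆ = ⁅y⁻¹ * y₀, x₀⁆⁻¹ := (commutatorElement_inv _ _).symm
    have hcmem : ⁅x₀, y₀⁆ ∈ L := by
      rw [hc, hy, mul_assoc l, mul_assoc l]
      refine mul_mem hl ?_
      rw [hswap]
      exact (inferInstance : L.Normal).conj_mem _ (inv_mem (hLmem _ hy₀ _)) y
    have e : ι ⁅x₀, y₀⁆ = (y₀ * x₀)⁻¹ * ⁅x₀, y₀⁆ * (y₀ * x₀) := by
      rw [map_commutatorElement, hx₀i, hy₀i]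
      simp [commutatorElement_def, mul_assoc]
    have e' := (hιL _ hcmem).2
    rw [e, map_mul, map_mul, map_inv, mul_assoc, (hcL _ hcmem _).eq, inv_mul_cancel_left,
      eq_inv_iff_mul_eq_one, ← sq] at e'
    have hc1 : π ⁅x₀, y₀⁆ = 1 := by
      have hg := pow_gcd_eq_one.2 ⟨e', hpz _ hcmem⟩
      rwa [Nat.Prime.coprime_iff_not_dvd Nat.prime_two |>.2 (fun hd =>
        hp2 ((Nat.prime_dvd_prime_iff_eq Nat.prime_two hp.out).1 hd).symm), pow_one] at hg
    have h' : π ⁅y⁻¹ * y₀, x₀⁆ = 1 := h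
    rw [hc, hy, hswap, map_mul, map_mul, map_mul, map_inv, h', inv_one, map_inv, mul_one,
      mul_inv_cancel_right] at hc1
    exact hc1
  let T : Subgroup P :=
    { carrier := {q | q ∈ Q ∧ ∀ v, π ⁅q, v⁆ = 1}
      one_mem' := ⟨one_mem Q, fun v => by rw [commutatorElement_one_left, map_one]⟩
      mul_mem' := fun {a b} ha hb => ⟨mul_mem ha.1 hb.1, fun v => by
        rw [hright a ha.1 b hb.1 v, ha.2, hb.2, mul_one]⟩
      inv_mem' := fun {a} ha => ⟨inv_mem ha.1, fun v => by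
        have := hright a ha.1 a⁻¹ (inv_mem ha.1) v
        rw [mul_inv_cancel, commutatorElement_one_left, map_one, ha.2, one_mul] at this
        exact this.symm⟩ }
  -- double counting
  have hQT : Nat.card Q * Nat.card Q = Nat.card T * Nat.card P := by
    have h1 : Nat.card (Σ v : P, (F' v).ker) = Nat.card (Σ q : Q, (F q).ker) := Nat.card_congr
      ⟨fun a => ⟨a.2.1, ⟨a.1, a.2.2⟩⟩, fun a => ⟨a.2.1, ⟨a.1, a.2.2⟩⟩, fun _ => rfl, fun _ => rfl⟩
    rw [Nat.card_sigma, Nat.card_sigma] at h1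
    have e1 : ∀ v : P, (p : ℤ) * Nat.card (F' v).ker =
        (Nat.card Q : ℤ) * (1 + ((p : ℤ) - 1) * if v ∈ Q then 1 else 0) := by
      intro v
      by_cases hv : v ∈ Q
      · have : (F' v).ker = ⊤ := eq_top_iff.2 fun q _ => hFQ q q.2 v hv
        rw [this, card_top, if_pos hv]; ring
      · rw [if_neg hv, mul_zero, add_zero, mul_one, mul_comm]
        exact_mod_cast card_ker_mul (F' v) z hzp (fun q => hLz _ (hLmem q q.2 v)) (hnd v hv)
    have e2 : ∀ q : Q, (p : ℤ) * Nat.card (F q).ker =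
        (Nat.card P : ℤ) * (1 + ((p : ℤ) - 1) * if (q : P) ∈ T then 1 else 0) := by
      intro q
      by_cases hq : (q : P) ∈ T
      · have : (F q).ker = ⊤ := eq_top_iff.2 fun v _ => hq.2 v
        rw [this, card_top, if_pos hq]; ring
      · rw [if_neg hq, mul_zero, add_zero, mul_one, mul_comm]
        have hne : ∃ v, F q v ≠ 1 := by
          by_contra hc
          push Not at hc
          exact hq ⟨q.2, hc⟩
        exact_mod_cast card_ker_mul (F q) z hzp (fun v => hLz _ (hLmem q q.2 v)) hne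
    have h2 : ((p : ℤ) * ∑ v : P, (Nat.card (F' v).ker : ℤ)) =
        (p : ℤ) * ∑ q : Q, (Nat.card (F q).ker : ℤ) := by exact_mod_cast congrArg (fun n => p * n) h1
    rw [Finset.mul_sum, Finset.mul_sum, Finset.sum_congr rfl fun v _ => e1 v,
      Finset.sum_congr rfl fun q _ => e2 q, ← Finset.mul_sum, ← Finset.mul_sum, Finset.sum_add_distrib,
      Finset.sum_add_distrib, ← Finset.mul_sum, ← Finset.mul_sum, Finset.sum_boole, Finset.sum_boole,
      Finset.sum_const, Finset.sum_const, Finset.card_univ, Finset.card_univ] at h2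
    have hTQ : (Finset.univ.filter fun q : Q => (q : P) ∈ T).card = Nat.card T := by
      rw [← Fintype.card_subtype, ← Nat.card_eq_fintype_card]
      exact Nat.card_congr
        ⟨fun q => ⟨q.1.1, q.2⟩, fun t => ⟨⟨t.1, t.2.1⟩, t.2⟩, fun _ => rfl, fun _ => rfl⟩
    have hQP : (Finset.univ.filter fun v : P => v ∈ Q).card = Nat.card Q := by
      rw [← Fintype.card_subtype, ← Nat.card_eq_fintype_card]
    rw [hTQ, hQP, ← Nat.card_eq_fintype_card, ← Nat.card_eq_fintype_card] at h2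
    simp only [nsmul_eq_mul, mul_one] at h2
    have h3 : ((p : ℤ) - 1) * ((Nat.card Q : ℤ) * Nat.card Q - Nat.card T * Nat.card P) = 0 := by
      linear_combination h2
    have hp1 : ((p : ℤ) - 1) ≠ 0 := by have := hp.out.two_le; omega
    exact_mod_cast sub_eq_zero.1 ((mul_eq_zero.1 h3).resolve_left hp1)
  -- but commutation with `a₀` maps `P / (Q ⊔ zpowers a₀)` onto `Q / T`
  have hLT : L ≤ T := fun l hl => ⟨(commutator_le_left Q ⊤) hl, fun v => by
    rw [map_commutatorElement, commutatorElement_eq_one_iff_commute]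
    exact hcL l hl _⟩
  have hTQle : T ≤ Q := fun t ht => ht.1
  haveI : T.Normal := ⟨fun t ht g => by
    have e : g * t * g⁻¹ = ⁅g, t⁆ * t := by simp [commutatorElement_def, mul_assoc]
    rw [e]
    refine mul_mem (hLT ?_) ht
    rw [← commutatorElement_inv]
    exact inv_mem (hLmem t ht.1 g)⟩
  have hcQ : ∀ q ∈ Q, ∀ w : P ⧸ T, Commute (QuotientGroup.mk' T q) w := by
    intro q hq w
    obtain ⟨v, rfl⟩ := QuotientGroup.mk'_surjective T w
    rw [← commutatorElement_eq_one_iff_commute, ← map_commutatorElement]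
    exact (QuotientGroup.eq_one_iff _).2 (hLT (hLmem q hq v))
  let β : P →* P ⧸ T := MonoidHom.mk' (fun v => QuotientGroup.mk' T ⁅a₀, v⁆) fun a b => by
    rw [commutatorElement_mul_right_eq_mul_conj, map_mul, map_mul, map_mul, map_inv,
      mul_assoc, mul_assoc, ← mul_assoc (QuotientGroup.mk' T a), ← (hcQ _ (hcomm a₀ b) _).eq,
      mul_assoc, mul_inv_cancel, mul_one]
  have hker : Q < β.ker := by
    refine lt_of_le_of_ne (fun q hq => ?_) fun e => ?_
    · show QuotientGroup.mk' T ⁅a₀, q⁆ = 1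
      rw [map_commutatorElement, commutatorElement_eq_one_iff_commute]
      exact (hcQ q hq _).symm
    · refine ha₀ (e ▸ ?_)
      show QuotientGroup.mk' T ⁅a₀, a₀⁆ = 1
      rw [commutatorElement_self, map_one]
  have hrange : β.range = Q.map (QuotientGroup.mk' T) := by
    refine le_antisymm ?_ ?_
    · rintro _ ⟨v, rfl⟩
      exact mem_map_of_mem _ (hcomm a₀ v)
    · rintro _ ⟨q, hq, rfl⟩
      obtain ⟨y, hy⟩ := hcam a₀ ha₀ q hq
      exact ⟨y, congrArg (QuotientGroup.mk' T) hy⟩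
  have hr1 : Nat.card β.range * Nat.card β.ker = Nat.card P := by
    rw [← index_ker, index_mul_card]
  have hr2 : Nat.card β.range * Nat.card T = Nat.card Q := by
    let r : Q →* P ⧸ T := (QuotientGroup.mk' T).comp Q.subtype
    have hr : r.range = β.range := by
      rw [hrange, MonoidHom.range_comp, Q.range_subtype]
    have hk : Nat.card r.ker = Nat.card T := Nat.card_congr
      ⟨fun q => ⟨q.1.1, (QuotientGroup.eq_one_iff _).1 q.2⟩,
        fun t => ⟨⟨t.1, hTQle t.2⟩, (QuotientGroup.eq_one_iff _).2 t.2⟩, fun _ => rfl, fun _ => rfl⟩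
    rw [← hr, ← hk, ← index_ker, index_mul_card]
  have hlt : Nat.card Q < Nat.card β.ker := by
    have h1 := Set.ncard_lt_ncard (SetLike.coe_ssubset_coe.2 hker) (Set.toFinite _)
    rwa [← Nat.card_coe_set_eq, ← Nat.card_coe_set_eq] at h1
  have hT0 : 0 < Nat.card T := Nat.card_pos
  have hr0 : 0 < Nat.card β.range := Nat.card_pos
  have : Nat.card Q * Nat.card Q = Nat.card Q * Nat.card β.ker := by
    calc Nat.card Q * Nat.card Q = Nat.card T * Nat.card P := hQT
      _ = (Nat.card β.range * Nat.card T) * Nat.card β.ker := by rw [← hr1]; ring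
      _ = _ := by rw [hr2]
  exact absurd (Nat.eq_of_mul_eq_mul_left Nat.card_pos this) hlt.ne

end CfsgLib.Char.OneNonzero
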