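import Mathlib.GroupTheory.FiniteAbelian.Duality
import Mathlib.Analysis.Complex.Polynomial.Basic
import Mathlib.RingTheory.RootsOfUnity.AlgebraicallyClosed

/-!
A quadratic map `s : V → W` of elementary abelian `2`-groups with nondegenerate polar form and
all fibres over nontrivial values of a common size `> 1`: then `|V| = |W| ^ 2` and the fibres have
more than `|W|` elements.
-/

set_option autoImplicit false

namespace CfsgLib.Char.OneNonzero

universe u v

theorem sum_sign_eq_zero {V : Type u} [Group V] [Fintype V] (f : V →* ℂˣ) (hf : f ≠ 1) :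
    ∑ x : V, (f x : ℂ) = 0 := by
  obtain ⟨a, ha⟩ : ∃ a, f a ≠ 1 := by
    by_contra h
    push Not at h
    exact hf (MonoidHom.ext fun x => h x)
  have h : ∑ x : V, (f x : ℂ) = (f a : ℂ) * ∑ x : V, (f x : ℂ) := by
    rw [Finset.mul_sum]
    exact (Fintype.sum_bijective (a * ·) (Group.mulLeft_bijective a) _ _ fun x => by
      rw [map_mul, Units.val_mul]).symm
  have : ((f a : ℂ) - 1) * ∑ x : V, (f x : ℂ) = 0 := by rw [sub_mul, ← h, one_mul, sub_self]
  exact (mul_eq_zero.1 this).resolve_left (sub_ne_zero.2 fun e => ha (Units.ext e))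

theorem sum_hom_apply {B : Type u} [CommGroup B] [Finite B] [Fintype (B →* ℂˣ)] [DecidableEq B] (b : B) :
    ∑ f : B →* ℂˣ, (f b : ℂ) = if b = 1 then (Nat.card B : ℂ) else 0 := by
  split_ifs with h
  · subst h
    simp only [map_one, Units.val_one, Finset.sum_const, Finset.card_univ, nsmul_eq_mul, mul_one,
      ← Nat.card_eq_fintype_card]
    rw [CommGroup.card_monoidHom_of_hasEnoughRootsOfUnity B ℂ]
  · obtain ⟨φ, hφ⟩ := CommGroup.exists_apply_ne_one_of_hasEnoughRootsOfUnity B ℂ h
    let ev : (B →* ℂˣ) →* ℂˣ := MonoidHom.mk' (fun f => f b) fun f g => rfl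
    exact sum_sign_eq_zero ev fun e => hφ (DFunLike.congr_fun e φ)

/-- The numerology. -/
theorem quadratic_card {V : Type u} [Group V] [Finite V] {W : Type v} [CommGroup W] [Finite W]
    (s : V → W) (β : V → (V →* W))
    (hW2 : ∀ w : W, w * w = 1) (hs1 : s 1 = 1)
    (hs : ∀ x u : V, s (x * u) = s x * s u * β u x)
    (hsurj : ∀ u : V, u ≠ 1 → Function.Surjective (β u))
    (hker : ∀ u : V, β u u = 1)
    (hne : ∀ u : V, u ≠ 1 → s u ≠ 1)
    (hfib : ∀ u v : V, u ≠ 1 → v ≠ 1 →
      Nat.card {x : V // s x = s u} = Nat.card {x : V // s x = s v})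
    (hV : 2 ≤ Nat.card V) (hV2 : ∃ k, Nat.card V = 2 ^ k) :
    Nat.card V = Nat.card W * Nat.card W ∧
      ∀ u : V, u ≠ 1 → Nat.card W < Nat.card {x : V // s x = s u} := by
  classical
  haveI := Fintype.ofFinite V
  haveI := Fintype.ofFinite W
  haveI := Fintype.ofFinite (W →* ℂˣ)
  haveI : Nontrivial V := Finite.one_lt_card_iff_nontrivial.1 hV
  obtain ⟨u₀, hu₀⟩ := exists_ne (1 : V)
  set N₀ := Nat.card {x : V // s x = s u₀} with hN₀
  set Im : Finset W := (Finset.univ.erase (1 : V)).image s with hIm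
  have hfilter : ∀ w ∈ Im, ((Finset.univ.erase (1 : V)).filter fun x => s x = w).card = N₀ := by
    intro w hw
    obtain ⟨v, hv, rfl⟩ := Finset.mem_image.1 hw
    have hv1 := Finset.ne_of_mem_erase hv
    rw [hN₀, hfib u₀ v hu₀ hv1, Nat.card_eq_fintype_card, Fintype.card_subtype]
    congr 1
    ext x
    simp only [Finset.mem_filter, Finset.mem_erase, Finset.mem_univ, and_true, true_and]
    exact ⟨fun h => h.2, fun h => ⟨fun e => hne v hv1 (by rw [← h, e, hs1]), h⟩⟩
  have hcount : Nat.card V - 1 = Im.card * N₀ := by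
    have h := Finset.card_eq_sum_card_image s (Finset.univ.erase (1 : V))
    rw [Finset.sum_congr rfl hfilter, Finset.sum_const, smul_eq_mul,
      Finset.card_erase_of_mem (Finset.mem_univ _), Finset.card_univ, ← Nat.card_eq_fintype_card] at h
    exact h
  -- `N₀` is odd and exceeds one
  have hWV : 2 * Nat.card W ≤ Nat.card V := by
    have hk : Nat.card (β u₀).range * Nat.card (β u₀).ker = Nat.card V := by
      rw [← Subgroup.index_ker, Subgroup.index_mul_card]
    rw [MonoidHom.range_eq_top.2 (hsurj u₀ hu₀), Subgroup.card_top] at hk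
    have h2 : 2 ≤ Nat.card (β u₀).ker :=
      Finite.one_lt_card_iff_nontrivial.2 ⟨⟨u₀, hker u₀⟩, 1, fun e => hu₀ (congrArg Subtype.val e)⟩
    rw [← hk, mul_comm]
    exact Nat.mul_le_mul_left _ h2
  have hImW : Im.card < Nat.card W := by
    rw [Nat.card_eq_fintype_card]
    refine Finset.card_lt_univ_of_notMem (x := 1) fun h => ?_
    obtain ⟨v, hv, e⟩ := Finset.mem_image.1 h
    exact hne v (Finset.ne_of_mem_erase hv) e
  have hN1 : 1 < N₀ := by
    by_contra h
    have : Im.card * N₀ ≤ Im.card * 1 := Nat.mul_le_mul_left _ (by omega)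
    omega
  have hNodd : Odd N₀ := by
    obtain ⟨k, hk⟩ := hV2
    rcases k with _ | k
    · omega
    · have : Odd (Im.card * N₀) := by
        rw [← hcount, hk, pow_succ]
        exact ⟨2 ^ k - 1, by have := Nat.one_le_two_pow (n := k); omega⟩
      exact (Nat.odd_mul.1 this).2
  -- signs
  let δ : (W →* ℂˣ) → W → ℤ := fun ε w => if ε w = 1 then 1 else -1
  have hδ : ∀ ε w, (ε w : ℂ) = (δ ε w : ℂ) := by
    intro ε w
    simp only [δ]
    split_ifs with h
    · rw [h]; simp
    · have h2 : (ε w : ℂ) * ε w = 1 := by rw [← Units.val_mul, ← map_mul, hW2, map_one, Units.val_one]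
      rcases mul_self_eq_one_iff.1 h2 with e | e
      · exact absurd (Units.ext e) h
      · rw [e]; simp
  let S : (W →* ℂˣ) → ℤ := fun ε => ∑ x : V, δ ε (s x)
  have hS : ∀ ε, (S ε : ℂ) = ∑ x : V, (ε (s x) : ℂ) := fun ε => by
    simp only [S, Int.cast_sum, hδ]
  have hsq : ∀ ε, ε ≠ 1 → S ε * S ε = (Nat.card V : ℤ) := by
    intro ε hε
    refine Int.cast_injective (α := ℂ) ?_
    push_cast
    rw [hS]
    have e1 : (∑ x : V, (ε (s x) : ℂ)) * ∑ x : V, (ε (s x) : ℂ) =
        ∑ u : V, (ε (s u) : ℂ) * ∑ x : V, (ε (β u x) : ℂ) := by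
      simp only [Finset.sum_mul, Finset.mul_sum]
      conv_rhs => rw [Finset.sum_comm]
      refine Finset.sum_congr rfl fun x _ => ?_
      refine Fintype.sum_bijective (x⁻¹ * ·) (Group.mulLeft_bijective _) _ _ fun y => ?_
      have h1 := hs x (x⁻¹ * y)
      rw [mul_inv_cancel_left] at h1
      rw [h1, ← Units.val_mul, ← Units.val_mul, ← map_mul, ← map_mul]
      refine congrArg (fun z => ((ε z : ℂˣ) : ℂ)) ?_
      calc s x * s (x⁻¹ * y) * β (x⁻¹ * y) x * s x
          = (s x * s x) * (s (x⁻¹ * y) * β (x⁻¹ * y) x) := by ac_rfl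
        _ = _ := by rw [hW2, one_mul]
    rw [e1, Finset.sum_eq_single (1 : V)]
    · rw [hs1, map_one, Units.val_one, one_mul]
      have : ∀ x, β 1 x = 1 := fun x => by
        have := hs x 1
        rw [mul_one, hs1, mul_one, left_eq_mul] at this
        exact this
      simp [this, Nat.card_eq_fintype_card]
    · intro u _ hu
      have : ε.comp (β u) ≠ 1 := fun e => hε (MonoidHom.ext fun w => by
        obtain ⟨x, rfl⟩ := hsurj u hu w
        exact DFunLike.congr_fun e x)
      have h0 := sum_sign_eq_zero _ this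
      simp only [MonoidHom.comp_apply] at h0
      rw [h0, mul_zero]
    · simp
  have hmod : ∀ ε, (N₀ : ℤ) ∣ S ε - 1 := by
    intro ε
    have h1 : S ε - 1 = ∑ x ∈ Finset.univ.erase (1 : V), δ ε (s x) := by
      simp only [S]
      rw [← Finset.add_sum_erase _ _ (Finset.mem_univ (1 : V)), hs1]
      simp [δ]
    rw [h1, Finset.sum_comp (fun w => δ ε w) s]
    refine Finset.dvd_sum fun w hw => ?_
    rw [hfilter w hw, nsmul_eq_mul]
    exact dvd_mul_right _ _
  have huniq : ∀ ε ε', ε ≠ 1 → ε' ≠ 1 → S ε = S ε' := by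
    intro ε ε' h h'
    rcases mul_self_eq_mul_self_iff.1 ((hsq ε h).trans (hsq ε' h').symm) with e | e
    · exact e
    · exfalso
      have h2 : (N₀ : ℤ) ∣ 2 := by
        have := dvd_add (hmod ε) (hmod ε')
        rw [e] at this
        have e2 : -S ε' - 1 + (S ε' - 1) = -2 := by ring
        rw [e2, dvd_neg] at this
        exact this
      have h3 : N₀ ∣ 2 := by exact_mod_cast h2
      have := Nat.le_of_dvd two_pos h3
      obtain ⟨c, hc⟩ := hNodd
      omega
  have hW1 : 1 < Nat.card W := Finite.one_lt_card_iff_nontrivial.2 ⟨⟨s u₀, 1, hne u₀ hu₀⟩⟩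
  obtain ⟨ε₀, hε₀⟩ := CommGroup.exists_apply_ne_one_of_hasEnoughRootsOfUnity W ℂ (hne u₀ hu₀)
  have hε₀' : ε₀ ≠ 1 := fun e => hε₀ (DFunLike.congr_fun e _)
  have htot : (Nat.card V : ℤ) + ((Nat.card W : ℤ) - 1) * S ε₀ = Nat.card W := by
    refine Int.cast_injective (α := ℂ) ?_
    have h1 : ∑ ε : W →* ℂˣ, (S ε : ℂ) = (Nat.card W : ℂ) := by
      simp only [hS]
      rw [Finset.sum_comm, Finset.sum_congr rfl fun x _ => sum_hom_apply (s x),
        Finset.sum_eq_single (1 : V) (fun x _ hx => if_neg (hne x hx)) (by simp), if_pos hs1]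
    rw [← Finset.add_sum_erase _ _ (Finset.mem_univ (1 : W →* ℂˣ)),
      Finset.sum_congr rfl fun ε hε =>
        congrArg (fun z : ℤ => (z : ℂ)) (huniq ε ε₀ (Finset.ne_of_mem_erase hε) hε₀'),
      Finset.sum_const, Finset.card_erase_of_mem (Finset.mem_univ _), Finset.card_univ,
      ← Nat.card_eq_fintype_card, CommGroup.card_monoidHom_of_hasEnoughRootsOfUnity W ℂ,
      nsmul_eq_mul, Nat.cast_sub (by omega)] at h1
    have h0 : (S 1 : ℂ) = (Nat.card V : ℂ) := by
      rw [hS]; simp [Nat.card_eq_fintype_card]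
    rw [h0] at h1
    push_cast at h1 ⊢
    exact h1
  have hfac : (S ε₀ - 1) * (S ε₀ + Nat.card W) = 0 := by
    linear_combination htot + hsq ε₀ hε₀'
  have hV' : Nat.card V = Nat.card W * Nat.card W := by
    rcases mul_eq_zero.1 hfac with h | h
    · have h2 := hsq ε₀ hε₀'
      rw [sub_eq_zero.1 h] at h2
      have : Nat.card V = 1 := by exact_mod_cast h2.symm
      omega
    · have h2 := hsq ε₀ hε₀'
      rw [eq_neg_of_add_eq_zero_left h, neg_mul_neg] at h2
      exact_mod_cast h2.symm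
  refine ⟨hV', fun u hu => ?_⟩
  rw [hfib u u₀ hu hu₀, ← hN₀]
  by_contra h
  have hw : Im.card * N₀ ≤ (Nat.card W - 1) * Nat.card W :=
    Nat.mul_le_mul (by omega) (by omega)
  rw [← hcount, hV', Nat.sub_one_mul] at hw
  have hle : Nat.card W ≤ Nat.card W * Nat.card W := Nat.le_mul_self _
  omega

end CfsgLib.Char.OneNonzero
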