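import Cfsg.Agent.Lib.Char.OneNonzero.LayerOdd
import Cfsg.Agent.Lib.Char.OneNonzero.LayerTwoAux

/-!
`p = 2`: a `2`-group `P` with a normal subgroup `Q ≠ P` such that the commutators of each element
outside `Q` cover `Q`, and a family of automorphisms, transitive on the nontrivial cosets of `Q`
and commuting modulo `Q`, has an element outside `Q` of order dividing four.
-/

set_option autoImplicit false

namespace CfsgLib.Char.OneNonzero

open Subgroup
open scoped commutatorElement IsMulCommutative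

universe u

variable {P : Type u} [Group P] [Finite P]

theorem exists_order_four (hP : IsPGroup 2 P) (Q : Subgroup P) [Q.Normal] (hQ : Q ≠ ⊤)
    (hcomm : ∀ x y : P, ⁅x, y⁆ ∈ Q) (hsqQ : ∀ x : P, x ^ 2 ∈ Q)
    (hcam : ∀ x : P, x ∉ Q → ∀ q ∈ Q, ∃ y, ⁅x, y⁆ = q) (A : Set (P ≃* P))
    (hAQ : ∀ a ∈ A, ∀ x : P, a x ∈ Q ↔ x ∈ Q)
    (htrans : ∀ x y : P, x ∉ Q → y ∉ Q → ∃ a ∈ A, (a x)⁻¹ * y ∈ Q)
    (habel : ∀ a ∈ A, ∀ b ∈ A, ∀ x : P, (a (b x))⁻¹ * b (a x) ∈ Q) :
    ∃ x : P, x ∉ Q ∧ x ^ 4 = 1 := by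
  classical
  obtain ⟨a₀, -, ha₀⟩ := SetLike.exists_of_lt (lt_top_iff_ne_top.2 hQ)
  have hQgen : ∀ q ∈ Q, ∃ a b : P, ⁅a, b⁆ = q := fun q hq => ⟨a₀, hcam a₀ ha₀ q hq⟩
  set L : Subgroup P := ⁅Q, (⊤ : Subgroup P)⁆ with hLdef
  have hLmem : ∀ q ∈ Q, ∀ v : P, ⁅q, v⁆ ∈ L := fun q hq v => commutator_mem_commutator hq (mem_top v)
  have hLQ : L ≤ Q := commutator_le_left Q ⊤
  by_cases hL : L = ⊥
  · refine ⟨a₀, ha₀, ?_⟩
    obtain ⟨a, b, hab⟩ := hQgen (a₀ ^ 2) (hsqQ a₀)
    have h1 : ⁅a * a, b⁆ = 1 := (mem_bot (G := P)).1 (hL ▸ sq a ▸ hLmem _ (hsqQ a) b)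
    have h2 : ⁅a₀ ^ 2, a⁆ = 1 := (mem_bot (G := P)).1 (hL ▸ hLmem _ (hsqQ a₀) a)
    rw [commutatorElement_mul_left_eq_conj_mul, hab,
      ← (commutatorElement_eq_one_iff_commute.1 h2).eq, mul_inv_cancel_right] at h1
    rw [← h1, ← pow_add]
  exfalso
  haveI : L.Normal := commutator_normal Q ⊤
  haveI : Fact (Nat.Prime 2) := ⟨Nat.prime_two⟩
  obtain ⟨N, _, z, hNL, hzp, hzc, hLz, -⟩ := exists_central_step hP L hL
  let π := QuotientGroup.mk' N
  have hcL : ∀ l ∈ L, ∀ w : P ⧸ N, Commute (π l) w := fun l hl w =>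
    (mem_center_iff.1 (zpowers_le.2 hzc (hLz l hl)) w).symm
  have hpz : ∀ l ∈ L, π l * π l = 1 := fun l hl => by
    obtain ⟨k, hk⟩ := mem_zpowers_iff.1 (hLz l hl)
    show (QuotientGroup.mk l : P ⧸ N) * QuotientGroup.mk l = 1
    rw [← hk, ← zpow_add, ← two_mul, zpow_mul, show z ^ (2 : ℤ) = 1 by
      rw [show (2 : ℤ) = ((2 : ℕ) : ℤ) from rfl, zpow_natCast, ← hzp, pow_orderOf_eq_one], one_zpow]
  have hleft : ∀ q ∈ Q, ∀ a b : P, π ⁅q, a * b⁆ = π ⁅q, a⁆ * π ⁅q, b⁆ := by
    intro q hq a b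
    rw [commutatorElement_mul_right_eq_mul_conj, map_mul, map_mul, map_mul, map_inv,
      mul_assoc, mul_assoc, ← mul_assoc (π a), ← (hcL _ (hLmem q hq b) (π a)).eq,
      mul_assoc, mul_inv_cancel, mul_one]
  have hright : ∀ q ∈ Q, ∀ q' ∈ Q, ∀ v : P, π ⁅q * q', v⁆ = π ⁅q, v⁆ * π ⁅q', v⁆ := by
    intro q hq q' hq' v
    rw [commutatorElement_mul_left_eq_conj_mul, map_mul, map_mul, map_mul, map_inv,
      ← (hcL _ (hLmem q' hq' v) (π q)).eq, mul_inv_cancel_right,
      (hcL _ (hLmem q' hq' v) _).eq]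
  have hFQ : ∀ q ∈ Q, ∀ q' ∈ Q, π ⁅q, q'⁆ = 1 := by
    intro q hq q' hq'
    obtain ⟨a, b, rfl⟩ := hQgen q' hq'
    show MonoidHom.mk' (fun v => π ⁅q, v⁆) (hleft q hq) ⁅a, b⁆ = 1
    rw [map_commutatorElement, commutatorElement_eq_one_iff_commute]
    exact hcL _ (hLmem q hq a) _
  let rad : Subgroup P :=
    { carrier := {q | q ∈ Q ∧ ∀ v, π ⁅q, v⁆ = 1}
      one_mem' := ⟨one_mem Q, fun v => by rw [commutatorElement_one_left, map_one]⟩
      mul_mem' := fun {a b} ha hb => ⟨mul_mem ha.1 hb.1, fun v => by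
        rw [hright a ha.1 b hb.1 v, ha.2, hb.2, mul_one]⟩
      inv_mem' := fun {a} ha => ⟨inv_mem ha.1, fun v => by
        have := hright a ha.1 a⁻¹ (inv_mem ha.1) v
        rw [mul_inv_cancel, commutatorElement_one_left, map_one, ha.2, one_mul] at this
        exact this.symm⟩ }
  -- it suffices that all squares lie in the radical
  suffices key : ∀ x : P, x ^ 2 ∈ rad by
    have hQrad : Q ≤ rad := by
      intro q hq
      obtain ⟨a, b, rfl⟩ := hQgen q hq
      have e : ⁅a, b⁆ = a ^ 2 * (a⁻¹ * b) ^ 2 * b⁻¹ ^ 2 := by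
        simp [commutatorElement_def, sq, mul_assoc]
      rw [e]
      exact mul_mem (mul_mem (key _) (key _)) (key _)
    refine hNL.not_ge ?_
    rw [hLdef, commutator_le]
    exact fun q hq v _ => (QuotientGroup.eq_one_iff _).1 ((hQrad hq).2 v)
  set T : Subgroup P := L ⊔ closure ((fun q : P => q * q) '' (Q : Set P)) with hT
  have hTQ : T ≤ Q := sup_le hLQ ((closure_le _).2 (by
    rintro _ ⟨q, hq, rfl⟩; exact mul_mem hq hq))
  have hTrad : T ≤ rad := by
    refine sup_le (fun l hl => ⟨hLQ hl, fun v => ?_⟩) ((closure_le _).2 ?_)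
    · rw [map_commutatorElement, commutatorElement_eq_one_iff_commute]
      exact hcL l hl _
    · rintro _ ⟨q, hq, rfl⟩
      exact ⟨mul_mem hq hq, fun v => by rw [hright q hq q hq v]; exact hpz _ (hLmem q hq v)⟩
  haveI hTn : T.Normal := ⟨fun t ht g => by
    have e : g * t * g⁻¹ = ⁅g, t⁆ * t := by simp [commutatorElement_def, mul_assoc]
    rw [e]
    refine mul_mem (le_sup_left (a := L) ?_) ht
    rw [← commutatorElement_inv]
    exact inv_mem (hLmem t (hTQ ht) g)⟩
  let πT := QuotientGroup.mk' T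
  have hcQ : ∀ q ∈ Q, ∀ w : P ⧸ T, Commute (πT q) w := by
    intro q hq w
    obtain ⟨v, rfl⟩ := QuotientGroup.mk'_surjective T w
    rw [← commutatorElement_eq_one_iff_commute, ← map_commutatorElement]
    exact (QuotientGroup.eq_one_iff _).2 (le_sup_left (a := L) (hLmem q hq v))
  let W : Subgroup (P ⧸ T) := Q.map πT
  haveI : IsMulCommutative W := ⟨⟨fun ⟨a, q, hq, e⟩ b => Subtype.ext (by
    subst e; exact (hcQ q hq _).eq)⟩⟩
  let wQ : (x : P) → x ∈ Q → W := fun x hx => ⟨πT x, mem_map_of_mem _ hx⟩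
  have hW2 : ∀ w : W, w * w = 1 := by
    rintro ⟨w, q, hq, rfl⟩
    refine Subtype.ext ?_
    show πT q * πT q = 1
    rw [← map_mul]
    exact (QuotientGroup.eq_one_iff _).2 (le_sup_right (a := L) (subset_closure ⟨q, hq, rfl⟩))
  -- the squaring map and its polar form
  have hsq_mul : ∀ x y : P, wQ ((x * y) ^ 2) (hsqQ _) =
      wQ (x ^ 2) (hsqQ _) * wQ (y ^ 2) (hsqQ _) * wQ ⁅y, x⁆ (hcomm _ _) := by
    intro x y
    refine Subtype.ext ?_
    show πT ((x * y) ^ 2) = πT (x ^ 2) * πT (y ^ 2) * πT ⁅y, x⁆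
    have e : (x * y) ^ 2 = x * ⁅y, x⁆ * (x * y * y) := by
      simp [commutatorElement_def, sq, mul_assoc]
    rw [e, map_mul, map_mul, map_mul, map_mul, ← (hcQ _ (hcomm y x) (πT x)).eq, map_pow, map_pow,
      sq, sq]
    calc πT ⁅y, x⁆ * πT x * (πT x * πT y * πT y)
        = πT ⁅y, x⁆ * (πT x * πT x * (πT y * πT y)) := by group
      _ = _ := (hcQ _ (hcomm y x) _).eq
  have hsq_Q : ∀ q, q ∈ Q → wQ (q ^ 2) (hsqQ q) = 1 := fun q hq => Subtype.ext (by
    show πT (q ^ 2) = 1
    rw [sq]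
    exact (QuotientGroup.eq_one_iff _).2 (le_sup_right (a := L) (subset_closure ⟨q, hq, rfl⟩)))
  have hcQ1 : ∀ x q, q ∈ Q → wQ ⁅x, q⁆ (hcomm _ _) = 1 := fun x q hq => Subtype.ext (by
    show πT ⁅x, q⁆ = 1
    rw [map_commutatorElement, commutatorElement_eq_one_iff_commute]
    exact (hcQ q hq _).symm)
  have hswap : ∀ x q, q ∈ Q → wQ ⁅q, x⁆ (hcomm _ _) = 1 := fun x q hq => Subtype.ext (by
    show πT ⁅q, x⁆ = 1
    rw [map_commutatorElement, commutatorElement_eq_one_iff_commute]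
    exact hcQ q hq _)
  let s : P ⧸ Q → W := fun v => Quotient.liftOn' v (fun x => wQ (x ^ 2) (hsqQ x)) fun x y h => by
    have hq : x⁻¹ * y ∈ Q := QuotientGroup.leftRel_apply.1 h
    have := hsq_mul x (x⁻¹ * y)
    simp only [mul_inv_cancel_left] at this
    rw [this, hsq_Q _ hq, hswap x _ hq, mul_one, mul_one]
  have hs_mk : ∀ x : P, s (QuotientGroup.mk x) = wQ (x ^ 2) (hsqQ x) := fun x => rfl
  let b : P → (P →* W) := fun u => MonoidHom.mk' (fun x => wQ ⁅u, x⁆ (hcomm _ _)) fun x y => by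
    refine Subtype.ext ?_
    show πT ⁅u, x * y⁆ = πT ⁅u, x⁆ * πT ⁅u, y⁆
    rw [commutatorElement_mul_right_eq_mul_conj, map_mul, map_mul, map_mul, map_inv,
      mul_assoc, mul_assoc, ← mul_assoc (πT x), ← (hcQ _ (hcomm u y) (πT x)).eq,
      mul_assoc, mul_inv_cancel, mul_one]
  let β : P ⧸ Q → (P ⧸ Q →* W) := fun u => QuotientGroup.lift Q (b u.out) fun q hq => hcQ1 _ q hq
  have hout : ∀ u x : P, b (QuotientGroup.mk u : P ⧸ Q).out x = b u x := by
    intro u x
    obtain ⟨⟨q, hq⟩, e⟩ := QuotientGroup.mk_out_eq_mul Q u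
    rw [e]
    refine Subtype.ext ?_
    show πT ⁅u * q, x⁆ = πT ⁅u, x⁆
    rw [commutatorElement_mul_left_eq_conj_mul, map_mul, map_mul, map_mul,
      show πT ⁅q, x⁆ = 1 from congrArg Subtype.val (hswap x q hq), mul_one, ← map_mul,
      mul_inv_cancel, map_one, one_mul]
  have hβ : ∀ u x : P, β (QuotientGroup.mk u) (QuotientGroup.mk x) = wQ ⁅u, x⁆ (hcomm _ _) :=
    fun u x => hout u x
  -- the family of automorphisms
  have haL : ∀ a ∈ A, ∀ t ∈ T, a t ∈ T := by
    intro a ha t ht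
    have : T.map (a : P →* P) ≤ T := by
      rw [hT, Subgroup.map_sup, MonoidHom.map_closure]
      refine sup_le_sup ?_ (closure_mono ?_)
      · rw [hLdef, map_commutator]
        exact commutator_mono (map_le_iff_le_comap.2 fun x hx => (hAQ a ha x).2 hx) le_top
      · rintro _ ⟨_, ⟨q, hq, rfl⟩, rfl⟩
        exact ⟨a q, (hAQ a ha q).2 hq, (map_mul a q q).symm⟩
    exact this (mem_map_of_mem _ ht)
  let act : (P ≃* P) → P ⧸ Q → P ⧸ Q := fun a v => QuotientGroup.mk (a v.out)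
  have hact : ∀ a ∈ A, ∀ x : P, act a (QuotientGroup.mk x) = QuotientGroup.mk (a x) := by
    intro a ha x
    obtain ⟨⟨q, hq⟩, e⟩ := QuotientGroup.mk_out_eq_mul Q x
    refine QuotientGroup.eq.2 ?_
    rw [e, ← map_inv, ← map_mul, hAQ a ha]
    simpa using inv_mem hq
  have hactmul : ∀ a ∈ A, ∀ v w : P ⧸ Q, act a (v * w) = act a v * act a w := by
    intro a ha v w
    induction v using QuotientGroup.induction_on with | _ x => ?_
    induction w using QuotientGroup.induction_on with | _ y => ?_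
    rw [← QuotientGroup.mk_mul, hact a ha, hact a ha, hact a ha, ← QuotientGroup.mk_mul, map_mul]
  have hactinj : ∀ a ∈ A, Function.Injective (act a) := by
    intro a ha v w h
    induction v using QuotientGroup.induction_on with | _ x => ?_
    induction w using QuotientGroup.induction_on with | _ y => ?_
    rw [hact a ha, hact a ha, QuotientGroup.eq, ← map_inv, ← map_mul, hAQ a ha] at h
    exact QuotientGroup.eq.2 h
  have hactone : ∀ a ∈ A, act a 1 = 1 := fun a ha => by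
    rw [← QuotientGroup.mk_one, hact a ha, map_one]
  have hactcomm : ∀ a ∈ A, ∀ c ∈ A, ∀ v, act a (act c v) = act c (act a v) := by
    intro a ha c hc v
    induction v using QuotientGroup.induction_on with | _ x => ?_
    rw [hact c hc, hact a ha, hact a ha, hact c hc]
    exact QuotientGroup.eq.2 (habel a ha c hc x)
  have hactW : ∀ a ∈ A, ∀ v w, s v = s w → s (act a v) = s (act a w) := by
    intro a ha v w h
    induction v using QuotientGroup.induction_on with | _ x => ?_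
    induction w using QuotientGroup.induction_on with | _ y => ?_
    rw [hact a ha, hact a ha, hs_mk, hs_mk]
    rw [hs_mk, hs_mk] at h
    refine Subtype.ext ?_
    have h' := QuotientGroup.eq.1 (congrArg Subtype.val h : πT (x ^ 2) = πT (y ^ 2))
    refine QuotientGroup.eq.2 ?_
    rw [← map_pow, ← map_pow, ← map_inv, ← map_mul]
    exact haL a ha _ h'
  have htransV : ∀ v w : P ⧸ Q, v ≠ 1 → w ≠ 1 → ∃ a ∈ A, act a v = w := by
    intro v w hv hw
    induction v using QuotientGroup.induction_on with | _ x => ?_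
    induction w using QuotientGroup.induction_on with | _ y => ?_
    obtain ⟨a, ha, h⟩ := htrans x y (fun h => hv ((QuotientGroup.eq_one_iff x).2 h))
      (fun h => hw ((QuotientGroup.eq_one_iff y).2 h))
    exact ⟨a, ha, by rw [hact a ha]; exact QuotientGroup.eq.2 h⟩
  by_cases hone : ∃ v : P ⧸ Q, v ≠ 1 ∧ s v = 1
  · obtain ⟨v, hv, hsv⟩ := hone
    intro x
    refine hTrad ((QuotientGroup.eq_one_iff _).1 ?_)
    have hall : ∀ w : P ⧸ Q, s w = 1 := by
      intro w
      by_cases hw : w = 1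
      · subst hw
        exact hsq_Q 1 (one_mem Q)
      · obtain ⟨a, ha, rfl⟩ := htransV v w hv hw
        rw [hactW a ha v 1 (hsv.trans (hsq_Q 1 (one_mem Q)).symm), hactone a ha]
        exact hsq_Q 1 (one_mem Q)
    exact congrArg Subtype.val (hall (QuotientGroup.mk x))
  push Not at hone
  -- fibres
  have hfib : ∀ u v : P ⧸ Q, u ≠ 1 → v ≠ 1 →
      Nat.card {x // s x = s u} = Nat.card {x // s x = s v} := by
    have h : ∀ u v : P ⧸ Q, u ≠ 1 → v ≠ 1 →
        Nat.card {x // s x = s u} ≤ Nat.card {x // s x = s v} := by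
      intro u v hu hv
      obtain ⟨a, ha, hav⟩ := htransV u v hu hv
      exact Nat.card_le_card_of_injective
        (fun x => ⟨act a x.1, hav ▸ hactW a ha _ _ x.2⟩)
        fun x y e => Subtype.ext (hactinj a ha (congrArg Subtype.val e))
    exact fun u v hu hv => le_antisymm (h u v hu hv) (h v u hv hu)
  have hVQ : 2 ≤ Nat.card (P ⧸ Q) := by
    haveI : Nontrivial (P ⧸ Q) :=
      ⟨⟨QuotientGroup.mk a₀, 1, fun h => ha₀ ((QuotientGroup.eq_one_iff _).1 h)⟩⟩
    exact Finite.one_lt_card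
  obtain ⟨hVW, hbig⟩ := quadratic_card s β hW2 (hsq_Q 1 (one_mem Q))
    (by
      intro x u
      induction x using QuotientGroup.induction_on with | _ x => ?_
      induction u using QuotientGroup.induction_on with | _ u => ?_
      rw [← QuotientGroup.mk_mul, hs_mk, hs_mk, hs_mk, hβ]
      exact hsq_mul x u)
    (by
      intro u hu w
      induction u using QuotientGroup.induction_on with | _ u => ?_
      obtain ⟨w, q, hq, rfl⟩ := w
      obtain ⟨y, hy⟩ := hcam u (fun h => hu ((QuotientGroup.eq_one_iff u).2 h)) q hq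
      exact ⟨QuotientGroup.mk y, (hβ u y).trans (Subtype.ext (congrArg πT hy))⟩)
    (by
      intro u
      induction u using QuotientGroup.induction_on with | _ u => ?_
      rw [hβ]
      refine Subtype.ext ?_
      show πT ⁅u, u⁆ = 1
      rw [commutatorElement_self, map_one])
    (fun v hv h => hone v hv h) hfib hVQ (IsPGroup.iff_card.1 (hP.to_quotient Q))
  let J : P ⧸ Q → Subgroup (P ⧸ Q) := fun v => closure {x | s x = s v}
  have hJcard : ∀ v, v ≠ 1 → Nat.card W < Nat.card (J v) := fun v hv =>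
    (hbig v hv).trans_le (Nat.card_le_card_of_injective (fun x => ⟨x.1, subset_closure x.2⟩)
      fun x y h => Subtype.ext (congrArg (fun w : J v => (w : P ⧸ Q)) h))
  have hJmap : ∀ a ∈ A, ∀ v, ∀ x ∈ J v, act a x ∈ J (act a v) := by
    intro a ha v x hx
    induction hx using closure_induction with
    | mem w hw => exact subset_closure (hactW a ha _ _ hw)
    | one => rw [hactone a ha]; exact one_mem _
    | mul _ _ _ _ h1 h2 => rw [hactmul a ha]; exact mul_mem h1 h2
    | inv w _ h =>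
      have e : act a w⁻¹ = (act a w)⁻¹ := eq_inv_of_mul_eq_one_left (by
        rw [← hactmul a ha, inv_mul_cancel, hactone a ha])
      rw [e]; exact inv_mem h
  have hJle : ∀ u v, u ≠ 1 → v ≠ 1 → Nat.card (J u) ≤ Nat.card (J v) := by
    intro u v hu hv
    obtain ⟨a, ha, rfl⟩ := htransV u v hu hv
    exact Nat.card_le_card_of_injective (fun x => ⟨act a x.1, hJmap a ha u x x.2⟩)
      fun x y e => Subtype.ext (hactinj a ha (congrArg Subtype.val e))
  have hJeq : ∀ x z, x ≠ 1 → z ≠ 1 → z ∈ J x → J z = J x := by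
    intro x z hx hz hzx
    refine eq_of_le_of_card_ge ((closure_le _).2 fun z' hz' => ?_) (hJle x z hx hz)
    have hz'1 : z' ≠ 1 := fun h => hone z hz (by
      rw [← show s z' = s z from hz', h]; exact hsq_Q 1 (one_mem Q))
    obtain ⟨a, ha, rfl⟩ := htransV z z' hz hz'1
    obtain ⟨c, hc, hcx⟩ := htransV z x hz hx
    have hfix : s (act a x) = s x := by
      rw [← hcx, hactcomm a ha c hc]
      exact hactW c hc _ _ hz'
    have hmap := hJmap a ha x z hzx
    have : J (act a x) = J x := by simp only [J, hfix]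
    rwa [this] at hmap
  have hJall : ∀ x y, x ≠ 1 → y ≠ 1 → J x = J y := by
    intro x y hx hy
    have hinter : J x ⊓ J y ≠ ⊥ := by
      intro h
      have hinj : Function.Injective (fun z : J x × J y => (z.1 : P ⧸ Q) * z.2) :=
        mul_injective_of_disjoint (disjoint_iff.2 h)
      have := Nat.card_le_card_of_injective _ hinj
      rw [Nat.card_prod, hVW] at this
      have := Nat.mul_lt_mul_of_lt_of_lt (hJcard x hx) (hJcard y hy)
      omega
    obtain ⟨⟨z, hzx, hzy⟩, hz⟩ := ne_bot_iff_exists_ne_one.1 hinter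
    have hz1 : z ≠ 1 := fun e => hz (Subtype.ext e)
    rw [← hJeq x z hx hz1 hzx, ← hJeq y z hy hz1 hzy]
  intro x
  by_cases hx : x ∈ Q
  · exact hTrad (le_sup_right (a := L) (subset_closure ⟨x, hx, (sq x).symm⟩))
  refine ⟨hsqQ x, fun v => ?_⟩
  let D : Subgroup P :=
    { carrier := {v | π ⁅x ^ 2, v⁆ = 1}
      one_mem' := by simp
      mul_mem' := fun {a b} ha hb => by
        show π ⁅x ^ 2, a * b⁆ = 1
        rw [hleft _ (hsqQ x), ha, hb, mul_one]
      inv_mem' := fun {a} ha => by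
        show π ⁅x ^ 2, a⁻¹⁆ = 1
        have := hleft _ (hsqQ x) a a⁻¹
        rw [mul_inv_cancel, commutatorElement_one_right, map_one, ha, one_mul] at this
        exact this.symm }
  have hQD : Q ≤ D := fun q hq => hFQ _ (hsqQ x) q hq
  have hxV : (QuotientGroup.mk x : P ⧸ Q) ≠ 1 := fun h => hx ((QuotientGroup.eq_one_iff x).1 h)
  have hJD : J (QuotientGroup.mk x) ≤ D.map (QuotientGroup.mk' Q) := by
    refine (closure_le _).2 fun w hw => ?_
    induction w using QuotientGroup.induction_on with | _ y => ?_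
    refine ⟨y, ?_, rfl⟩
    show π ⁅x ^ 2, y⁆ = 1
    have h' : (y ^ 2)⁻¹ * x ^ 2 ∈ rad := hTrad (QuotientGroup.eq.1
      (congrArg Subtype.val hw : πT (y ^ 2) = πT (x ^ 2)))
    rw [← mul_inv_cancel_left (y ^ 2) (x ^ 2), hright _ (hsqQ y) _ h'.1, h'.2, mul_one,
      commutatorElement_eq_one_iff_commute.2 ((Commute.refl y).pow_left 2), map_one]
  suffices hv : v ∈ D by exact hv
  by_cases hvQ : v ∈ Q
  · exact hQD hvQ
  have hvV : (QuotientGroup.mk v : P ⧸ Q) ≠ 1 := fun h => hvQ ((QuotientGroup.eq_one_iff v).1 h)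
  have hmem : (QuotientGroup.mk v : P ⧸ Q) ∈ J (QuotientGroup.mk x) := by
    rw [hJall _ _ hxV hvV]
    exact subset_closure rfl
  obtain ⟨w, hw, hwv⟩ := hJD hmem
  have h2 := QuotientGroup.eq.1 hwv
  have := mul_mem hw (hQD h2)
  rwa [mul_inv_cancel_left] at this

end CfsgLib.Char.OneNonzero
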