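import Cfsg.Agent.Lib.Char.OneNonzero.Structure
import Cfsg.Agent.Lib.Char.OneNonzero.LayerTwoAux
import Cfsg.Agent.Lib.Char.InvariantAbove
import Cfsg.Agent.Lib.Char.Integrality
import Cfsg.Prelude.Def_Blocks

/-!
An element seen by exactly one nonlinear irreducible character.
-/

set_option autoImplicit false

namespace CfsgLib.Char.OneNonzero

open scoped ComplexConjugate commutatorElement IsMulCommutative
open Subgroup Cfsg CfsgLib.Char

universe u

variable {G : Type u} [Group G] [Finite G]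

theorem charDegree_eq_one_iff (ψ : IrrCharacter G) :
    Cfsg.charDegree (ψ : G → ℂ) = 1 ↔ (ψ : G → ℂ) 1 = 1 := by
  obtain ⟨d, -, hd⟩ := isIrrCharacter_degree ψ.2
  unfold Cfsg.charDegree
  rw [hd]
  simp

theorem hom_commutator (f : G →* ℂˣ) {x : G} (hx : x ∈ commutator G) : f x = 1 :=
  Abelianization.commutator_subset_ker f hx

theorem exists_hom_ne_one {x : G} (hx : x ∉ commutator G) : ∃ f : G →* ℂˣ, f x ≠ 1 := by
  have hne : Abelianization.of x ≠ 1 := fun h => hx ((QuotientGroup.eq_one_iff x).1 h)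
  obtain ⟨φ, hφ⟩ := CommGroup.exists_apply_ne_one_of_hasEnoughRootsOfUnity (Abelianization G) ℂ hne
  exact ⟨φ.comp Abelianization.of, hφ⟩

theorem main (g : G) (hg : g ∉ center G) (χ : IrrCharacter G)
    (hχ1 : Cfsg.charDegree (χ : G → ℂ) ≠ 1) (hχg : (χ : G → ℂ) g ≠ 0)
    (hother : ∀ ψ : IrrCharacter G, Cfsg.charDegree (ψ : G → ℂ) ≠ 1 → ψ ≠ χ → (ψ : G → ℂ) g = 0) :
    g ∈ commutator G ∧ (χ : G → ℂ) g = -(((commutator G).index : ℂ) / (χ : G → ℂ) 1) ∧
      ((commutator G : Set G) = {x : G | (χ : G → ℂ) x = (χ : G → ℂ) 1} ∪ {h : G | IsConj g h}) ∧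
      (∀ x : G, x ∉ commutator G → (χ : G → ℂ) x = 0) ∧
      (∀ ψ : IrrCharacter G, Cfsg.charDegree (ψ : G → ℂ) ≠ 1 →
        (∀ x : G, (χ : G → ℂ) x = (χ : G → ℂ) 1 → (ψ : G → ℂ) x = (ψ : G → ℂ) 1) → ψ = χ) ∧
      Group.IsSolvable G := by
  classical
  haveI := Fintype.ofFinite G
  haveI := Fintype.ofFinite (IrrCharacter G)
  haveI := Fintype.ofFinite (G →* ℂˣ)
  rw [Ne, charDegree_eq_one_iff] at hχ1
  have hother' : ∀ ψ : IrrCharacter G, (ψ : G → ℂ) 1 ≠ 1 → ψ ≠ χ → (ψ : G → ℂ) g = 0 := fun ψ h =>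
    hother ψ (by rwa [Ne, charDegree_eq_one_iff])
  obtain ⟨d, hd0, hd⟩ := isIrrCharacter_degree χ.2
  have hχ0 : (χ : G → ℂ) 1 ≠ 0 := irr_one_ne_zero χ
  -- column orthogonality, split
  have hsplit : ∀ h : G, (∑ f : G →* ℂˣ, (f h : ℂ) * conj (f g : ℂ)) +
      (χ : G → ℂ) h * conj ((χ : G → ℂ) g) =
        if IsConj h g then (Nat.card (centralizer ({h} : Set G)) : ℂ) else 0 := by
    intro h
    rw [← sum_irr_mul_conj h g,
      ← Finset.sum_filter_add_sum_filter_not Finset.univ (fun ψ : IrrCharacter G => (ψ : G → ℂ) 1 = 1)]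
    congr 1
    · rw [← Finset.sum_subtype_eq_sum_filter, Finset.subtype_univ]
      exact Fintype.sum_equiv linearCharEquiv _ _ fun f => rfl
    · symm
      refine Finset.sum_eq_single_of_mem χ (Finset.mem_filter.2 ⟨Finset.mem_univ _, hχ1⟩) ?_
      intro ψ hψ hne
      rw [hother' ψ (Finset.mem_filter.1 hψ).2 hne, map_zero, mul_zero]
  have hne1 : ¬ IsConj (1 : G) g := fun h => hg (by
    rw [isConj_one_right.1 h]; exact one_mem _)
  have h1 := hsplit 1
  rw [if_neg hne1] at h1
  simp only [map_one, Units.val_one, one_mul] at h1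
  -- `g ∈ G'`
  have hgM : g ∈ commutator G := by
    by_contra hgM
    obtain ⟨f, hf⟩ := exists_hom_ne_one hgM
    let ev : (G →* ℂˣ) →* ℂˣ := MonoidHom.mk' (fun f => f g) fun _ _ => rfl
    have hs := sum_sign_eq_zero ev fun e => hf (DFunLike.congr_fun e f)
    have hs' : ∑ f : G →* ℂˣ, conj (f g : ℂ) = 0 := by
      rw [← map_sum]
      simp only [ev, MonoidHom.mk'_apply] at hs
      rw [hs, map_zero]
    rw [hs', zero_add, mul_eq_zero] at h1
    rcases h1 with h | h
    · exact hχ0 h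
    · exact hχg (by simpa using h)
  have hfg : ∀ f : G →* ℂˣ, (f g : ℂ) = 1 := fun f => by rw [hom_commutator f hgM, Units.val_one]
  set m : ℕ := (commutator G).index with hm
  have hcardhom : Fintype.card (G →* ℂˣ) = m := by
    rw [← Nat.card_eq_fintype_card, Nat.card_congr linearCharEquiv, card_linear]
  simp only [hfg, map_one, Finset.sum_const, Finset.card_univ, hcardhom, nsmul_eq_mul, mul_one] at h1
  have hm0 : (m : ℂ) ≠ 0 := Nat.cast_ne_zero.2 index_ne_zero_of_finite
  have hconjg : conj ((χ : G → ℂ) g) = -((m : ℂ) / (χ : G → ℂ) 1) := by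
    field_simp
    linear_combination h1
  have hval : (χ : G → ℂ) g = -((m : ℂ) / (χ : G → ℂ) 1) := by
    have := congrArg conj hconjg
    rwa [Complex.conj_conj, map_neg, map_div₀, map_natCast, conj_irr_one] at this
  -- twisting
  have hvanish : ∀ x : G, x ∉ commutator G → (χ : G → ℂ) x = 0 := by
    intro x hx
    obtain ⟨f, hf⟩ := exists_hom_ne_one hx
    let ψ : IrrCharacter G := ⟨_, isIrrCharacter_mul_linear χ f⟩
    have hψ : ψ = χ := by
      by_contra hne
      have := hother' ψ (by show (f 1 : ℂ) * (χ : G → ℂ) 1 ≠ 1; simpa using hχ1) hne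
      exact hχg (by simpa [ψ, hfg f] using this)
    have h := congrFun (congrArg Subtype.val hψ) x
    have h' : ((f x : ℂ) - 1) * (χ : G → ℂ) x = 0 := by
      rw [sub_mul, one_mul, sub_eq_zero]; exact h
    exact (mul_eq_zero.1 h').resolve_left (sub_ne_zero.2 fun e => hf (Units.ext e))
  have hother1 : ∀ h ∈ commutator G, ¬ IsConj g h → (χ : G → ℂ) h = (χ : G → ℂ) 1 := by
    intro h hh hnc
    have h2 := hsplit h
    rw [if_neg fun e => hnc e.symm] at h2
    simp only [hfg, hom_commutator _ hh, Units.val_one, map_one, mul_one, Finset.sum_const,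
      Finset.card_univ, hcardhom, nsmul_eq_mul] at h2
    rw [hconjg] at h2
    field_simp at h2
    have e : (m : ℂ) * ((χ : G → ℂ) 1 - (χ : G → ℂ) h) = 0 := by linear_combination h2
    exact (sub_eq_zero.1 ((mul_eq_zero.1 e).resolve_left hm0)).symm
  -- the kernel
  have hker : ∃ K : Subgroup G, K.Normal ∧ (∀ x, x ∈ K ↔ (χ : G → ℂ) x = (χ : G → ℂ) 1) ∧
      ∀ z, (∀ b, ⁅z, b⁆ ∈ K) → (χ : G → ℂ) z ≠ 0 := by
    obtain ⟨k, ρ, hρ, hχ⟩ := χ.2
    refine ⟨ρ.ker, inferInstance, fun x => ?_, fun z hz h0 => ?_⟩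
    · rw [← hχ, Representation.char_one, char_eq_degree_iff]
      exact Iff.rfl
    · obtain ⟨c, hc⟩ := schur_scalar ρ (ρ z) fun b => by
        have h : ρ (z * b * z⁻¹ * b⁻¹) = 1 := hz b
        rw [← map_mul, ← map_mul, show z * b = z * b * z⁻¹ * b⁻¹ * (b * z) by group, map_mul, h,
          one_mul]
      have hne : c ≠ 0 := fun hc0 => by
        have h := (map_mul ρ z z⁻¹).symm.trans ((congrArg ρ (mul_inv_cancel z)).trans (map_one ρ))
        rw [hc, hc0, zero_smul, zero_mul] at h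
        have := congrArg (LinearMap.trace ℂ _) h
        rw [map_zero, Module.End.one_eq_id, LinearMap.trace_id, eq_comm, Nat.cast_eq_zero] at this
        exact (finrank_pos_of_irreducible ρ).ne' this
      rw [← hχ, Representation.character, hc, trace_smul_id, mul_eq_zero, Nat.cast_eq_zero] at h0
      exact (finrank_pos_of_irreducible ρ).ne' (h0.resolve_left hne)
  obtain ⟨K, hKn, hK, hscal0⟩ := hker
  haveI := hKn
  have hKM : K ≤ commutator G := fun x hx => by
    by_contra h
    exact hχ0 (((hK x).1 hx).symm.trans (hvanish x h))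
  have hgK : g ∉ K := fun h => by
    have e := (hK g).1 h
    rw [hval] at e
    field_simp at e
    rw [hd] at e
    have e2 : ((m + d ^ 2 : ℕ) : ℂ) = 0 := by push_cast; linear_combination -e
    have := Nat.cast_eq_zero.1 e2
    have hd2 : 0 < d ^ 2 := by positivity
    omega
  have hcls : ∀ x, IsConj g x ↔ x ∈ commutator G ∧ x ∉ K := by
    intro x
    refine ⟨fun h => ?_, fun ⟨hxM, hxK⟩ => by_contra fun h => hxK ((hK x).2 (hother1 x hxM h))⟩
    obtain ⟨c, rfl⟩ := isConj_iff.1 h
    exact ⟨(inferInstance : (commutator G).Normal).conj_mem g hgM c,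
      fun h => hgK (by simpa [mul_assoc] using hKn.conj_mem _ h c⁻¹)⟩
  refine ⟨hgM, hval, ?_, hvanish, ?_, ?_⟩
  · ext x
    simp only [SetLike.mem_coe, Set.mem_union, Set.mem_setOf_eq]
    constructor
    · intro hx
      by_cases h : IsConj g x
      · exact Or.inr h
      · exact Or.inl (hother1 x hx h)
    · rintro (h | h)
      · exact hKM ((hK x).2 h)
      · exact ((hcls x).1 h).1
  · intro ψ hψ hker
    by_contra hne
    rw [Ne, charDegree_eq_one_iff] at hψ
    have hg0 := hother' ψ hψ hne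
    haveI := Fintype.ofFinite (commutator G)
    have havg : cosetAvg (commutator G) (ψ : G → ℂ) 1 ≠ 0 := by
      simp only [cosetAvg, mul_one]
      refine mul_ne_zero (inv_ne_zero (Nat.cast_ne_zero.2 Nat.card_pos.ne')) ?_
      have hterm : ∀ n : commutator G, (ψ : G → ℂ) n = if (n : G) ∈ K then (ψ : G → ℂ) 1 else 0 := by
        intro n
        split_ifs with h
        · exact hker n ((hK n).1 h)
        · rw [← classFun_isConj (isClassFunction_irr ψ) ((hcls n).2 ⟨n.2, h⟩), hg0]
      rw [Finset.sum_congr rfl fun n _ => hterm n, ← Finset.sum_filter, Finset.sum_const,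
        nsmul_eq_mul]
      refine mul_ne_zero (Nat.cast_ne_zero.2 (Finset.card_pos.2
        ⟨1, by simp⟩).ne') (irr_one_ne_zero ψ)
    rcases cosetAvg_irr (commutator G) ψ with e | e
    · have h := cosetAvg_mul_left (commutator G) (ψ : G → ℂ) ⟨g, hgM⟩ 1
      rw [e, mul_one, hg0] at h
      exact irr_one_ne_zero ψ h.symm
    · exact havg (congrFun e 1)
  · refine isSolvable K hKM hgM hgK hcls
      (fun z hz => by_contra fun h => hscal0 z hz (hvanish z h)) fun ψ ⟨x, hx, hne⟩ => ?_
    refine hother' ψ (fun h1 => hne ?_) fun e => hne (e ▸ (hK x).1 hx)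
    obtain ⟨f, hf⟩ := linearCharEquiv.surjective ⟨ψ, h1⟩
    have := congrFun (congrArg (fun z => ((z.1 : IrrCharacter G) : G → ℂ)) hf) x
    rw [h1]
    rw [show (ψ : G → ℂ) x = (f x : ℂ) from this.symm, hom_commutator f (hKM hx), Units.val_one]

end CfsgLib.Char.OneNonzero
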