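import Cfsg.Agent.Lib.Char.OneNonzero.CanonicalVanish
import Cfsg.Agent.Lib.Char.OneNonzero.FpfFourPerfect
import Cfsg.Agent.Lib.Char.OneNonzero.IndexTwo
import Cfsg.Agent.Lib.Char.OneNonzero.LayerTwo

/-!
`K ≤ G'` normal, `G' \ K` the class of `g`, `G / K` centreless outside `G'`, characters nontrivial on
`K` vanish at `g`: then `G` is solvable.
-/

set_option autoImplicit false

namespace CfsgLib.Char.OneNonzero

open Subgroup Cfsg
open scoped commutatorElement

universe u

variable {G : Type u} [Group G] [Finite G]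

/-- The element `g` has a power identity `g ^ p = 1`, or `p = 2` and `g ^ 4 = 1`. -/
theorem small_order (K : Subgroup G) [K.Normal] (hKM : K ≤ commutator G) {g : G}
    (hgM : g ∈ commutator G) (hgK : g ∉ K)
    (hcls : ∀ x, IsConj g x ↔ x ∈ commutator G ∧ x ∉ K)
    (hscal : ∀ z : G, (∀ b, ⁅z, b⁆ ∈ K) → z ∈ commutator G) {p : ℕ} [hp : Fact p.Prime]
    (hgp : g ^ p ∈ K) {v : ℕ} (hord : orderOf g = p ^ v)
    (hab : ∀ x ∈ commutator G, ∀ y ∈ commutator G, ⁅x, y⁆ ∈ K) :
    g ^ p = 1 ∨ p = 2 ∧ g ^ 4 = 1 := by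
  classical
  set M : Subgroup G := commutator G with hM
  have hMc : ∀ a b : G, ⁅a, b⁆ ∈ M := fun a b =>
    commutator_mem_commutator (mem_top a) (mem_top b)
  let π := QuotientGroup.mk' K
  have hπ1 : ∀ x, π x = 1 ↔ x ∈ K := fun x => QuotientGroup.eq_one_iff x
  have hcM : ∀ x ∈ M, ∀ y ∈ M, Commute (π x) (π y) := fun x hx y hy => by
    rw [← commutatorElement_eq_one_iff_commute, ← map_commutatorElement]
    exact (hπ1 _).2 (hab x hx y hy)
  have hconj : ∀ x ∈ M, x ∉ K → ∃ c, c * g * c⁻¹ = x := fun x hx hxK =>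
    isConj_iff.1 ((hcls x).2 ⟨hx, hxK⟩)
  have hpowK : ∀ x ∈ M, x ∉ K → x ^ p ∈ K := fun x hx hxK => by
    obtain ⟨c, rfl⟩ := hconj x hx hxK
    rw [conj_pow]
    exact ‹K.Normal›.conj_mem _ hgp c
  have hlift : ∀ n : ℕ, (∀ x ∈ M, x ∉ K → x ^ n = 1 → g ^ n = 1) := fun n x hx hxK h => by
    obtain ⟨c, rfl⟩ := hconj x hx hxK
    rw [conj_pow] at h
    simpa using h
  -- the number of conjugates of `g`
  have hclass : Nat.card (centralizer ({g} : Set G)) * (Nat.card M - Nat.card K) = Nat.card G := by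
    have h1 : Nat.card {x : G // IsConj g x} = Nat.card M - Nat.card K := by
      rw [Nat.card_congr (Equiv.subtypeEquivRight hcls)]
      change Nat.card ((M : Set G) \ (K : Set G) : Set G) = _
      rw [Nat.card_coe_set_eq, Set.ncard_diff hKM]
      rfl
    rw [← h1, card_isConj, card_mul_index]
  by_cases hcent : ∀ a : G, ⁅a, g⁆ ∈ K
  · -- `M / K` is central of order two
    have hgc : ∀ a, Commute (π a) (π g) := fun a => by
      rw [← commutatorElement_eq_one_iff_commute, ← map_commutatorElement]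
      exact (hπ1 _).2 (hcent a)
    have hMg : ∀ x ∈ M, x ∉ K → π x = π g := fun x hx hxK => by
      obtain ⟨c, rfl⟩ := hconj x hx hxK
      rw [map_mul, map_mul, map_inv, (hgc c).eq, mul_inv_cancel_right]
    have hcenM : ∀ x ∈ M, ∀ a, Commute (π x) (π a) := fun x hx a => by
      by_cases hxK : x ∈ K
      · rw [(hπ1 x).2 hxK]; exact Commute.one_left _
      · rw [hMg x hx hxK]; exact (hgc a).symm
    have hp2 : p = 2 := by
      by_contra hp2
      have hg2 : g ^ 2 ∉ K := fun h => hgK (by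
        have hodd := hp.out.odd_of_ne_two hp2
        obtain ⟨k, hk⟩ := hodd
        have h1 := mul_mem hgp (inv_mem (pow_mem h k))
        rwa [hk, ← pow_mul, pow_succ', mul_inv_cancel_right] at h1)
      have h2 := hMg _ (pow_mem hgM 2) hg2
      rw [sq, map_mul, mul_eq_left] at h2
      exact hgK ((hπ1 g).1 h2)
    subst hp2
    right
    refine ⟨rfl, ?_⟩
    obtain ⟨S, hS⟩ := (IsPGroup.of_card (p := 2) (n := v) (G := zpowers g)
      (by rw [Nat.card_zpowers, hord])).exists_le_sylow
    have hgS : g ∈ (S : Subgroup G) := hS (mem_zpowers g)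
    have hcard2 : Nat.card M = 2 * Nat.card K := by
      let f : M →* G ⧸ K := π.comp M.subtype
      have hk : Nat.card f.ker = Nat.card K := Nat.card_congr
        ⟨fun x => ⟨x.1.1, (hπ1 _).1 x.2⟩, fun x => ⟨⟨x.1, hKM x.2⟩, (hπ1 _).2 x.2⟩, fun _ => rfl,
          fun _ => rfl⟩
      have hr : f.range = zpowers (π g) := by
        refine le_antisymm ?_ (zpowers_le.2 ⟨⟨g, hgM⟩, rfl⟩)
        rintro _ ⟨⟨x, hx⟩, rfl⟩
        by_cases hxK : x ∈ K
        · show π x ∈ _
          rw [(hπ1 x).2 hxK]; exact one_mem _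
        · show π x ∈ _
          rw [hMg x hx hxK]; exact mem_zpowers _
      have ho : orderOf (π g) = 2 := orderOf_eq_prime (by rw [← map_pow]; exact (hπ1 _).2 hgp)
        fun h => hgK ((hπ1 g).1 h)
      rw [← hk, ← ho, ← Nat.card_zpowers, ← hr, ← index_ker, index_mul_card]
    -- the class of `g` in `S` is a coset of `K ⊓ S`
    let PS : Subgroup S := M.subgroupOf S
    let QS : Subgroup S := K.subgroupOf S
    have hcl : ∀ q ∈ QS, ∃ a : S, a * ⟨g, hgS⟩ * a⁻¹ = ⟨g, hgS⟩ * q := by
      let gS : S := ⟨g, hgS⟩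
      have hsub : ∀ a : S, gS⁻¹ * (a * gS * a⁻¹) ∈ QS := fun a => (hπ1 _).1 (by
        show π (g⁻¹ * ((a : G) * g * (a : G)⁻¹)) = 1
        rw [map_mul, map_mul, map_mul, map_inv, map_inv, (hgc a).eq, mul_inv_cancel_right,
          inv_mul_cancel])
      let cl := {x : S // IsConj gS x}
      let f : cl → QS := fun x => ⟨gS⁻¹ * x.1, by
        obtain ⟨a, ha⟩ := isConj_iff.1 x.2
        rw [← ha]; exact hsub a⟩
      have hf : Function.Injective f := fun x y h => Subtype.ext (mul_left_cancel (congrArg Subtype.val h))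
      have hge : Nat.card QS ≤ Nat.card cl := by
        have h1 : Nat.card cl * Nat.card (centralizer ({gS} : Set S)) = Nat.card S := by
          rw [card_isConj]
          exact Subgroup.index_mul_card _
        obtain ⟨i, hi⟩ := IsPGroup.iff_card.1 (S.2.to_subgroup (centralizer ({gS} : Set S)))
        obtain ⟨j, hj⟩ := IsPGroup.iff_card.1 (S.2.to_subgroup QS)
        have hd1 : 2 ^ i ∣ Nat.card (centralizer ({g} : Set G)) := by
          rw [← hi, ← Subgroup.card_map_of_injective (f := (S : Subgroup G).subtype)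
            Subtype.val_injective]
          refine card_dvd_of_le ?_
          rintro _ ⟨x, hx, rfl⟩
          rw [mem_centralizer_singleton_iff]
          exact congrArg Subtype.val (mem_centralizer_singleton_iff.1 hx)
        have hd2 : 2 ^ j ∣ Nat.card M - Nat.card K := by
          rw [← hj, hcard2, two_mul, Nat.add_sub_cancel,
            ← Subgroup.card_map_of_injective (f := (S : Subgroup G).subtype) Subtype.val_injective]
          refine card_dvd_of_le ?_
          rintro _ ⟨x, hx, rfl⟩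
          exact hx
        have h2 : 2 ^ (i + j) ∣ Nat.card G := by
          rw [pow_add, ← hclass]
          exact Nat.mul_dvd_mul hd1 hd2
        have h3 : 2 ^ (i + j) ∣ Nat.card S := by
          rw [S.card_eq_multiplicity]
          exact pow_dvd_pow 2 ((Nat.prime_two.pow_dvd_iff_le_factorization Nat.card_pos.ne').1 h2)
        have h4 := Nat.le_of_dvd Nat.card_pos h3
        rw [← h1, pow_add, hi, mul_comm (Nat.card cl)] at h4
        rw [hj]
        exact Nat.le_of_mul_le_mul_left h4 (pow_pos two_pos i)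
      have hbij := (Nat.bijective_iff_injective_and_card f).2
        ⟨hf, le_antisymm (Nat.card_le_card_of_injective f hf) hge⟩
      intro q hq
      obtain ⟨⟨x, hx⟩, hxq⟩ := hbij.2 ⟨q, hq⟩
      obtain ⟨a, ha⟩ := isConj_iff.1 hx
      refine ⟨a, ?_⟩
      have := congrArg Subtype.val hxq
      have this : gS⁻¹ * x = q := congrArg Subtype.val hxq
      show a * gS * a⁻¹ = gS * q
      rw [ha, ← this, mul_inv_cancel_left]
    have key := pow_four_eq_one S.2 PS QS (fun x hx => hKM hx)
      (fun x y hxP hxQ hyP hyQ => (hπ1 _).1 (by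
        show π ((x : G)⁻¹ * y) = 1
        rw [map_mul, map_inv, hMg (x : G) hxP hxQ, hMg (y : G) hyP hyQ, inv_mul_cancel]))
      (g := ⟨g, hgS⟩) hgM hgK hcl (fun a b => hMc a b) ?_
    · exact congrArg Subtype.val key
    · intro a haP
      by_contra hcon
      push Not at hcon
      refine haP (hscal a fun b => ?_)
      -- commutation with `a` is a homomorphism to `M / K`
      let F : G →* G ⧸ K := MonoidHom.mk' (fun b => π ⁅(a : G), b⁆) fun x y => by
        rw [commutatorElement_mul_right_eq_mul_conj, map_mul, map_mul, map_mul, map_inv, mul_assoc,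
          mul_assoc, ← mul_assoc (π x), ← (hcenM _ (hMc a y) x).eq, mul_assoc, mul_inv_cancel,
          mul_one]
      have hF2 : ∀ b, F b ^ 2 = 1 := fun b => by
        show π ⁅(a : G), b⁆ ^ 2 = 1
        by_cases h : ⁅(a : G), b⁆ ∈ K
        · rw [(hπ1 _).2 h, one_pow]
        · rw [hMg _ (hMc _ _) h, ← map_pow]; exact (hπ1 _).2 hgp
      rw [← hπ1]
      show F b = 1
      set o := orderOf b / 2 ^ (orderOf b).factorization 2 with ho
      have ho_odd : Odd o := by
        rw [← Nat.not_even_iff_odd, even_iff_two_dvd]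
        exact Nat.not_dvd_ordCompl Nat.prime_two (orderOf_pos b).ne'
      have hb2 : IsPGroup 2 (zpowers (b ^ o)) := by
        obtain ⟨i, -, hi⟩ := (Nat.dvd_prime_pow Nat.prime_two).1 (orderOf_dvd_of_pow_eq_one
          (show (b ^ o) ^ 2 ^ (orderOf b).factorization 2 = 1 by
            rw [← pow_mul, ho, Nat.div_mul_cancel (Nat.ordProj_dvd _ _), pow_orderOf_eq_one]))
        exact IsPGroup.of_card (by rw [Nat.card_zpowers, hi])
      obtain ⟨T, hT⟩ := hb2.exists_le_sylow
      obtain ⟨c, hc⟩ := MulAction.exists_smul_eq G T S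
      have hmem : c * b ^ o * c⁻¹ ∈ (S : Subgroup G) := by
        rw [← hc, Sylow.coe_subgroup_smul]
        exact mem_map_of_mem _ (hT (mem_zpowers _))
      have h1 : F (c * b ^ o * c⁻¹) = 1 := (hπ1 _).2 (hcon ⟨_, hmem⟩)
      rw [map_mul, map_mul, map_inv, map_pow] at h1
      have hcomm : Commute (F c) (F b ^ o) := (hcenM _ (hMc _ _) _).pow_right o
      rw [hcomm.eq, mul_inv_cancel_right] at h1
      obtain ⟨k, hk⟩ := ho_odd
      rwa [hk, pow_succ, pow_mul, hF2, one_pow, one_mul] at h1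
  -- the action on `M / K` is nontrivial
  push Not at hcent
  obtain ⟨a, ha⟩ := hcent
  let Mb : Subgroup (G ⧸ K) := M.map π
  have hMbmem : ∀ x, π x ∈ Mb → x ∈ M := fun x hx => by
    obtain ⟨y, hy, hxy⟩ := hx
    have := QuotientGroup.eq.1 hxy
    simpa using mul_mem hy (hKM this)
  have hswapM : ∀ c a : G, ∀ w ∈ M, Commute (π a) (π w) → Commute (π (c * a * c⁻¹)) (π w) := by
    intro c a w hw h
    rw [show c * a * c⁻¹ = ⁅c, a⁆ * a by simp [commutatorElement_def, mul_assoc], map_mul]
    exact (hcM _ (hMc c a) w hw).mul_left h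
  have hfixall : ∀ z, Commute (π z) (π g) → ∀ x ∈ M, Commute (π z) (π x) := by
    intro z hz x hx
    by_cases hxK : x ∈ K
    · rw [(hπ1 x).2 hxK]; exact Commute.one_right _
    obtain ⟨c, rfl⟩ := hconj x hx hxK
    have h1 := hswapM c⁻¹ z g hgM hz
    rw [inv_inv] at h1
    have h2 := h1.map (MulAut.conj (π c)).toMonoidHom
    simp only [MulEquiv.coe_toMonoidHom, MulAut.conj_apply, map_mul, map_inv] at h2
    simpa [mul_assoc] using h2
  have hag : ¬ Commute (π a) (π g) := fun h => ha (by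
    rw [← hπ1, map_commutatorElement, commutatorElement_eq_one_iff_commute]; exact h)
  have hnofix : ∀ x ∈ M, Commute (π a) (π x) → x ∈ K := by
    intro x hx h
    by_contra hxK
    obtain ⟨c, rfl⟩ := hconj x hx hxK
    refine hag ?_
    have hg' : π g = π c⁻¹ * π (c * g * c⁻¹) * π c⁻¹⁻¹ := by
      rw [← map_mul, ← map_mul]; congr 1; group
    have h1 := h.map (MulAut.conj (π c⁻¹)).toMonoidHom
    simp only [MulEquiv.coe_toMonoidHom, MulAut.conj_apply, ← map_inv, ← map_mul] at h1
    rw [show c⁻¹ * (c * g * c⁻¹) * c⁻¹⁻¹ = g by group] at h1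
    have := hswapM c (c⁻¹ * a * c⁻¹⁻¹) g hgM h1
    rwa [show c * (c⁻¹ * a * c⁻¹⁻¹) * c⁻¹ = a by group] at this
  have hstab : ∀ z, Commute (π z) (π g) → z ∈ M := by
    intro z hz
    let f : Mb → Mb := fun w => ⟨⁅π a, (w : G ⧸ K)⁆, by
      obtain ⟨y, hy, e⟩ := w.2
      rw [← e, ← map_commutatorElement]
      exact mem_map_of_mem _ (hMc _ _)⟩
    have hf : Function.Injective f := by
      rintro ⟨_, x, hx, rfl⟩ ⟨_, y, hy, rfl⟩ h
      have h' : ⁅π a, π x⁆ = ⁅π a, π y⁆ := congrArg Subtype.val h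
      refine Subtype.ext ?_
      show π x = π y
      have hxy : Commute (π a) (π (x⁻¹ * y)) := by
        rw [← commutatorElement_eq_one_iff_commute, map_mul, map_inv,
          commutatorElement_mul_right_eq_mul_conj]
        have e1 : ⁅π a, (π x)⁻¹⁆ = (π x)⁻¹ * ⁅π a, π x⁆⁻¹ * π x := by
          simp [commutatorElement_def, mul_assoc]
        rw [e1, h']; group
      have := hnofix _ (mul_mem (inv_mem hx) hy) hxy
      exact (QuotientGroup.eq.2 this)
    obtain ⟨⟨_, m, hm, rfl⟩, hm'⟩ := Finite.injective_iff_surjective.1 hf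
      ⟨⁅π a, π z⁆, by rw [← map_commutatorElement]; exact mem_map_of_mem _ (hMc _ _)⟩
    have hm'' : ⁅π a, π m⁆ = ⁅π a, π z⁆ := congrArg Subtype.val hm'
    have hz0 : Commute (π a) (π (z * m⁻¹)) := by
      rw [← commutatorElement_eq_one_iff_commute, map_mul, map_inv,
        commutatorElement_mul_right_eq_mul_conj, ← hm'']
      have e1 : ⁅π a, (π m)⁻¹⁆ = (π m)⁻¹ * ⁅π a, π m⁆⁻¹ * π m := by
        simp [commutatorElement_def, mul_assoc]
      have hzm : ∀ w ∈ M, π z * π w * (π z)⁻¹ = π w := fun w hw => by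
        rw [(hfixall z hz w hw).eq, mul_inv_cancel_right]
      have hmem : ⁅π a, (π m)⁻¹⁆ = π ⁅a, m⁻¹⁆ := by rw [map_commutatorElement, map_inv]
      have hc2 : ⁅π a, π m⁆⁻¹ * (π m)⁻¹ = (π m)⁻¹ * ⁅π a, π m⁆⁻¹ := by
        rw [← map_commutatorElement, ← map_inv, ← map_inv]
        exact (hcM _ (inv_mem (hMc a m)) _ (inv_mem hm)).eq
      rw [mul_assoc, mul_assoc, ← mul_assoc (π z), hmem, hzm _ (hMc _ _), ← hmem, e1, ← hc2]
      group
    have hzmem : z * m⁻¹ ∈ M := by
      refine hscal _ fun b => ?_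
      rw [← commutatorElement_inv]
      refine inv_mem (hnofix _ (hMc b _) ?_)
      -- conjugating by `a` fixes `⁅b, z₀⁆`
      set z₀ := z * m⁻¹ with hz₀
      have hz0M : ∀ w ∈ M, Commute (π z₀) (π w) := fun w hw => by
        rw [hz₀, map_mul]
        exact (hfixall z hz w hw).mul_left (hcM _ (inv_mem hm) w hw)
      have h1 : π a * π ⁅b, z₀⁆ * (π a)⁻¹ = ⁅π ⁅a, b⁆ * π b, π z₀⁆ := by
        rw [map_commutatorElement, conjugate_commutatorElement, hz0.eq, mul_inv_cancel_right,
          map_commutatorElement]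
        congr 1
        simp [commutatorElement_def, mul_assoc]
      rw [commutatorElement_mul_left_eq_conj_mul, ← map_commutatorElement,
        commutatorElement_eq_one_iff_commute.2 (hz0M _ (hMc a b)).symm, mul_one,
        (hcM _ (hMc a b) _ (hMc b z₀)).eq, mul_inv_cancel_right] at h1
      exact mul_inv_eq_iff_eq_mul.1 h1
    simpa using mul_mem hzmem hm
  -- sizes
  have hker : Nat.card (π.comp M.subtype).ker = Nat.card K := Nat.card_congr
    ⟨fun x => ⟨x.1.1, (hπ1 _).1 x.2⟩, fun x => ⟨⟨x.1, hKM x.2⟩, (hπ1 _).2 x.2⟩, fun _ => rfl,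
      fun _ => rfl⟩
  have hMK : Nat.card Mb * Nat.card K = Nat.card M := by
    rw [← hker, ← index_mul_card (π.comp M.subtype).ker, index_ker, MonoidHom.range_comp,
      M.range_subtype]
  have hindex : M.index = Nat.card Mb - 1 := by
    have h1 : {x : G ⧸ K | IsConj (π g) x} = (Mb : Set (G ⧸ K)) \ {1} := by
      ext x
      obtain ⟨x, rfl⟩ := QuotientGroup.mk'_surjective K x
      constructor
      · intro h
        obtain ⟨c, hc⟩ := isConj_iff.1 (Set.mem_setOf.1 h)
        obtain ⟨c, rfl⟩ := QuotientGroup.mk'_surjective K c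
        rw [← map_inv, ← map_mul, ← map_mul] at hc
        obtain ⟨hM', hK'⟩ := (hcls _).1 (isConj_iff.2 ⟨c, rfl⟩)
        rw [← hc]
        exact ⟨mem_map_of_mem _ hM', fun e => hK' ((hπ1 _).1 e)⟩
      · rintro ⟨hx, hx1⟩
        obtain ⟨c, hc⟩ := hconj x (hMbmem x hx) (fun h => hx1 ((hπ1 x).2 h))
        exact isConj_iff.2 ⟨π c, by rw [← map_inv, ← map_mul, ← map_mul, hc]⟩
    have h2 : centralizer ({π g} : Set (G ⧸ K)) = Mb := by
      ext x
      obtain ⟨x, rfl⟩ := QuotientGroup.mk'_surjective K x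
      rw [mem_centralizer_singleton_iff]
      exact ⟨fun h => mem_map_of_mem _ (hstab x h), fun h => hcM x (hMbmem x h) g hgM⟩
    have h3 := card_isConj (π g)
    change Nat.card {x : G ⧸ K | IsConj (π g) x} = _ at h3
    rw [h1, h2, Nat.card_coe_set_eq, Set.ncard_diff_singleton_of_mem (one_mem Mb)] at h3
    rw [← index_map_eq M (QuotientGroup.mk'_surjective K) (by rw [QuotientGroup.ker_mk']; exact hKM)]
    exact h3.symm
  have hMb2 : 1 < Nat.card Mb := Finite.one_lt_card_iff_nontrivial.2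
    ⟨⟨⟨π g, mem_map_of_mem _ hgM⟩, 1, fun h => hgK ((hπ1 g).1 (congrArg Subtype.val h))⟩⟩
  have hCr : ∀ x ∈ M, x ∉ K → Nat.card (centralizer ({x} : Set G)) = Nat.card Mb := by
    intro x hx hxK
    have hg : Nat.card (centralizer ({g} : Set G)) = Nat.card Mb := by
      have h := hclass
      rw [← card_mul_index M, hindex, ← hMK] at h
      have e : Nat.card Mb * Nat.card K - Nat.card K = (Nat.card Mb - 1) * Nat.card K := by
        rw [Nat.sub_one_mul]
      rw [e] at h
      refine Nat.eq_of_mul_eq_mul_right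
        (Nat.mul_pos (Nat.sub_pos_of_lt hMb2) (Nat.card_pos (α := K))) ?_
      rw [h]; ring
    have e := card_isConj x
    have e' := card_isConj g
    have hx' : IsConj g x := (hcls x).2 ⟨hx, hxK⟩
    rw [Nat.card_congr (Equiv.subtypeEquivRight fun y => ⟨hx'.trans, hx'.symm.trans⟩), e'] at e
    rw [← hg]
    have a1 := (centralizer ({x} : Set G)).card_mul_index
    rw [← e, ← (centralizer ({g} : Set G)).card_mul_index] at a1
    exact Nat.eq_of_mul_eq_mul_right (Nat.pos_of_ne_zero index_ne_zero_of_finite) a1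
  -- a Sylow subgroup of `M`
  obtain ⟨P₀, hP₀⟩ := (IsPGroup.of_card (p := p) (n := v) (G := zpowers (⟨g, hgM⟩ : M))
    (by rw [Nat.card_zpowers, Subgroup.orderOf_mk, hord])).exists_le_sylow
  set P : Subgroup G := (P₀ : Subgroup M).map M.subtype with hPdef
  have hPM : P ≤ M := map_subtype_le _
  have hgP : g ∈ P := ⟨⟨g, hgM⟩, hP₀ (mem_zpowers _), rfl⟩
  have hPp : IsPGroup p P := P₀.2.map _
  set Q : Subgroup P := K.subgroupOf P with hQdef
  have hQtop : Q ≠ ⊤ := fun h => hgK (h.ge (mem_top (⟨g, hgP⟩ : P)))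
  have hcommP : ∀ x y : P, ⁅x, y⁆ ∈ Q := fun x y => hab x (hPM x.2) y (hPM y.2)
  have hpowP : ∀ x : P, x ^ p ∈ Q := fun x => by
    show ((x : G)) ^ p ∈ K
    by_cases hxK : (x : G) ∈ K
    · exact pow_mem hxK p
    · exact hpowK x (hPM x.2) hxK
  -- `P` covers `M / K`
  have hcover : ∀ x ∈ M, ∃ y : P, π (y : G) = π x := by
    have htop : (P₀ : Subgroup M).map (π.comp M.subtype) = Mb := by
      refine eq_of_le_of_card_ge ?_ ?_
      · rintro _ ⟨y, -, rfl⟩
        exact mem_map_of_mem _ y.2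
      · let f := (π.comp M.subtype).comp (P₀ : Subgroup M).subtype
        have hf : (P₀ : Subgroup M).map (π.comp M.subtype) = f.range := by
          rw [MonoidHom.range_comp, (P₀ : Subgroup M).range_subtype]
        rw [hf]
        have hd : Nat.card f.ker ∣ Nat.card K := by
          rw [← hker]
          exact card_dvd_of_injective
            ({ toFun := fun x => ⟨x.1.1, x.2⟩, map_one' := rfl, map_mul' := fun _ _ => rfl } :
              f.ker →* (π.comp M.subtype).ker)
            fun x y h => Subtype.ext (Subtype.ext (congrArg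
              (fun z : (π.comp M.subtype).ker => (z : M)) h))
        have h1 : Nat.card f.range * Nat.card f.ker = p ^ (Nat.card M).factorization p := by
          rw [← index_ker, index_mul_card, P₀.card_eq_multiplicity]
        have hMbp : ∃ k, Nat.card Mb = p ^ k := by
          refine IsPGroup.iff_card.1 fun w => ⟨1, Subtype.ext ?_⟩
          obtain ⟨x, hx, e⟩ := w.2
          rw [pow_one, Subgroup.coe_pow, ← e, ← map_pow, Subgroup.coe_one]
          by_cases hxK : x ∈ K
          · exact (hπ1 _).2 (pow_mem hxK p)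
          · exact (hπ1 _).2 (hpowK x hx hxK)
        obtain ⟨k, hk⟩ := hMbp
        obtain ⟨i, hi, hi'⟩ := (Nat.dvd_prime_pow hp.out).1 (Dvd.intro_left _ h1)
        have hle : i ≤ (Nat.card K).factorization p :=
          (hp.out.pow_dvd_iff_le_factorization Nat.card_pos.ne').1 (hi' ▸ hd)
        have hfac : (Nat.card M).factorization p = k + (Nat.card K).factorization p := by
          rw [← hMK, hk, Nat.factorization_mul (pow_ne_zero _ hp.out.ne_zero) Nat.card_pos.ne',
            hp.out.factorization_pow, Finsupp.add_apply, Finsupp.single_eq_same]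
        rw [hk]
        rw [hi'] at h1
        have hh : p ^ k * p ^ i ≤ Nat.card f.range * p ^ i := by
          rw [h1, hfac, ← pow_add]
          exact Nat.pow_le_pow_right hp.out.pos (by omega)
        exact Nat.le_of_mul_le_mul_right hh (pow_pos hp.out.pos i)
    intro x hx
    obtain ⟨y, hy, e⟩ := htop.ge (mem_map_of_mem π hx)
    exact ⟨⟨_, mem_map_of_mem _ hy⟩, e⟩
  -- classes in `P`
  have hcam : ∀ x : P, x ∉ Q → ∀ q ∈ Q, ∃ y, ⁅x, y⁆ = q := by
    intro x hx q hq
    have hxK : (x : G)⁻¹ ∉ K := fun h => hx (show (x : G) ∈ K by simpa using inv_mem h)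
    let cl := {z : P // IsConj x⁻¹ z}
    let f : cl → Q := fun z => ⟨x * z.1, by
      obtain ⟨c, hc⟩ := isConj_iff.1 z.2
      have e : x * z.1 = ⁅x, c⁆ := by rw [← hc]; simp [commutatorElement_def, mul_assoc]
      rw [e]; exact hcommP x c⟩
    have hf : Function.Injective f := fun z w h =>
      Subtype.ext (mul_left_cancel (congrArg Subtype.val h))
    have hQP : Nat.card Q * Nat.card Mb = Nat.card P := by
      have hk : Q = (π.comp P.subtype).ker := by
        ext z; exact (hπ1 _).symm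
      have hr : (π.comp P.subtype).range = Mb := by
        refine le_antisymm ?_ ?_
        · rintro _ ⟨z, rfl⟩; exact mem_map_of_mem _ (hPM z.2)
        · rintro _ ⟨z, hz, rfl⟩; exact hcover z hz
      rw [hk, ← hr, ← index_ker, card_mul_index]
    have hge : Nat.card Q ≤ Nat.card cl := by
      have h1 : Nat.card cl * Nat.card (centralizer ({x⁻¹} : Set P)) = Nat.card P := by
        rw [card_isConj, index_mul_card]
      have h2 : Nat.card (centralizer ({x⁻¹} : Set P)) ≤ Nat.card Mb := by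
        rw [← hCr _ (hPM (inv_mem x.2)) hxK]
        exact Nat.card_le_card_of_injective
          (fun z => ⟨((z : P) : G), mem_centralizer_singleton_iff.2
            (congrArg Subtype.val (mem_centralizer_singleton_iff.1 z.2))⟩)
          fun z w h => Subtype.ext (Subtype.ext (congrArg
            (fun e : centralizer ({(x : G)⁻¹} : Set G) => (e : G)) h))
      rw [← hQP] at h1
      by_contra hlt
      push Not at hlt
      have := Nat.mul_lt_mul_of_lt_of_le hlt h2 (Nat.card_pos (α := Mb))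
      omega
    obtain ⟨⟨z, hz⟩, hzq⟩ := ((Nat.bijective_iff_injective_and_card f).2
      ⟨hf, le_antisymm (Nat.card_le_card_of_injective f hf) hge⟩).2 ⟨q, hq⟩
    obtain ⟨y, hy⟩ := isConj_iff.1 hz
    refine ⟨y, ?_⟩
    have e : x * z = q := congrArg Subtype.val hzq
    rw [← e, ← hy]; simp [commutatorElement_def, mul_assoc]
  -- automorphisms from the normalizer
  have hfr : ∀ c : G, ∃ n : normalizer (P : Set G), c⁻¹ * (n : G) ∈ M := by
    intro c
    have h := Sylow.normalizer_sup_eq_top P₀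
    have hc : c ∈ normalizer (P : Set G) ⊔ M := by rw [hPdef, h]; exact mem_top c
    obtain ⟨n, hn, m, hm, rfl⟩ := mem_sup_of_normal_right.1 hc
    exact ⟨⟨n, hn⟩, by simpa [mul_assoc] using inv_mem hm⟩
  have hsame : ∀ c n : G, c⁻¹ * n ∈ M → ∀ x ∈ M,
      π (n * x * n⁻¹) = π (c * x * c⁻¹) := by
    intro c n hcn x hx
    have h1 : n * x * n⁻¹ = c * ((c⁻¹ * n) * x * (c⁻¹ * n)⁻¹) * c⁻¹ := by group
    rw [h1, map_mul, map_mul, map_mul, map_mul, map_inv, map_inv, (hcM _ hcn x hx).eq,
      mul_inv_cancel_right, ← map_inv, ← map_mul, ← map_mul]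
  let au : normalizer (P : Set G) →* MulAut P := P.normalizerMonoidHom
  have hau : ∀ (n : normalizer (P : Set G)) (x : P), ((au n x : P) : G) = n * x * (n : G)⁻¹ :=
    fun n x => rfl
  have hmemQ : ∀ x y : P, π (x : G) = π (y : G) → x⁻¹ * y ∈ Q := fun x y h =>
    (hπ1 ((x : G)⁻¹ * y)).1 (by rw [map_mul, map_inv, h, inv_mul_cancel])
  by_cases hp2 : p = 2
  · right
    refine ⟨hp2, ?_⟩
    subst hp2
    obtain ⟨x, hx, hx4⟩ := exists_order_four hPp Q hQtop hcommP hpowP hcam
      (Set.range fun n => au n)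
      (by
        rintro _ ⟨n, rfl⟩ x
        show (n : G) * x * (n : G)⁻¹ ∈ K ↔ (x : G) ∈ K
        exact ⟨fun h => by simpa [mul_assoc] using ‹K.Normal›.conj_mem _ h (n : G)⁻¹,
          fun h => ‹K.Normal›.conj_mem _ h _⟩)
      (by
        intro x y hx hy
        obtain ⟨c, hc⟩ := isConj_iff.1 (((hcls x).2 ⟨hPM x.2, hx⟩).symm.trans
          ((hcls y).2 ⟨hPM y.2, hy⟩))
        obtain ⟨n, hn⟩ := hfr c
        refine ⟨_, ⟨n, rfl⟩, hmemQ _ _ ?_⟩
        rw [hau, hsame c n hn _ (hPM x.2), hc])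
      (by
        rintro _ ⟨n, rfl⟩ _ ⟨m, rfl⟩ x
        refine hmemQ _ _ ?_
        rw [hau, hau, hau, hau]
        have h1 : ((n : G) * m)⁻¹ * ((m : G) * n) ∈ M := by
          have := hMc ((n : G) * m)⁻¹ ((m : G) * n)
          have h2 : ⁅(n : G)⁻¹, (m : G)⁻¹⁆ ∈ M := hMc _ _
          have e : ((n : G) * m)⁻¹ * ((m : G) * n) = ⁅(m : G)⁻¹, (n : G)⁻¹⁆ := by
            simp [commutatorElement_def, mul_assoc]
          rw [e]; exact hMc _ _
        have := hsame _ _ h1 _ (hPM x.2)
        simp only [mul_inv_rev, mul_assoc] at this ⊢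
        exact this.symm)
    exact hlift 4 x (hPM x.2) hx (congrArg Subtype.val hx4)
  · left
    obtain ⟨c, hc⟩ := hconj g⁻¹ (inv_mem hgM) (fun h => hgK (by simpa using inv_mem h))
    obtain ⟨n, hn⟩ := hfr c
    set o := orderOf n / 2 ^ (orderOf n).factorization 2 with ho
    have ho_odd : Odd o := by
      rw [← Nat.not_even_iff_odd, even_iff_two_dvd]
      exact Nat.not_dvd_ordCompl Nat.prime_two (orderOf_pos n).ne'
    have hng : π (n : G) * π g * (π (n : G))⁻¹ = (π g)⁻¹ := by
      rw [← map_inv, ← map_mul, ← map_mul, hsame c n hn g hgM, hc, map_inv]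
    have hinvall : ∀ x ∈ M, π (n : G) * π x * (π (n : G))⁻¹ = (π x)⁻¹ := by
      intro x hx
      by_cases hxK : x ∈ K
      · rw [(hπ1 x).2 hxK]; simp
      obtain ⟨d, rfl⟩ := hconj x hx hxK
      have h2 : ((d : G) * n)⁻¹ * ((n : G) * d) ∈ M := by
        rw [show ((d : G) * n)⁻¹ * ((n : G) * d) = ⁅(n : G)⁻¹, d⁻¹⁆ by
          simp [commutatorElement_def, mul_assoc]]
        exact hMc _ _
      have h3 := hsame _ _ h2 g hgM
      rw [← map_inv, ← map_mul, ← map_mul,
        show (n : G) * (d * g * d⁻¹) * (n : G)⁻¹ = (n : G) * d * g * ((n : G) * d)⁻¹ by group, h3,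
        show d * (n : G) * g * (d * (n : G))⁻¹ = d * ((n : G) * g * (n : G)⁻¹) * d⁻¹ by group,
        map_mul, map_mul, map_mul, map_mul, map_inv, map_inv, hng, map_mul, map_mul, map_inv]
      group
    have hinvpow : ∀ i : ℕ, Odd i → ∀ x ∈ M,
        π (n : G) ^ i * π x * (π (n : G) ^ i)⁻¹ = (π x)⁻¹ := by
      intro i hi x hx
      obtain ⟨k, rfl⟩ := hi
      induction k with
      | zero => simpa using hinvall x hx
      | succ k ih =>
        have e : π (n : G) ^ (2 * (k + 1) + 1) * π x * (π (n : G) ^ (2 * (k + 1) + 1))⁻¹ =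
            π (n : G) * (π (n : G) * (π (n : G) ^ (2 * k + 1) * π x * (π (n : G) ^ (2 * k + 1))⁻¹) *
              (π (n : G))⁻¹) * (π (n : G))⁻¹ := by
          rw [show 2 * (k + 1) + 1 = 1 + (1 + (2 * k + 1)) by omega, pow_add, pow_add, pow_one]
          group
        rw [e, ih, ← map_inv, hinvall _ (inv_mem hx), map_inv, inv_inv, hinvall x hx]
    obtain ⟨x, hx, hxp⟩ := exists_order_p hPp hp2 Q hQtop hcommP hpowP hcam (au (n ^ o))
      (j := (orderOf n).factorization 2)
      (fun x => by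
        have h : ∀ i : ℕ, ((au (n ^ o) : P ≃* P) : P → P)^[i] x = au ((n ^ o) ^ i) x := by
          intro i
          induction i with
          | zero => simp
          | succ i ih => rw [Function.iterate_succ_apply', ih, pow_succ' (n ^ o), map_mul]; rfl
        rw [h, ← pow_mul, ho, Nat.div_mul_cancel (Nat.ordProj_dvd _ _), pow_orderOf_eq_one, map_one]
        rfl)
      (fun x => by
        show ((au (n ^ o) x : P) : G) * (x : G) ∈ K
        rw [← hπ1, map_mul, hau, Subgroup.coe_pow, map_mul, map_mul, map_inv, map_pow,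
          hinvpow o ho_odd _ (hPM x.2), inv_mul_cancel])
    exact hlift p x (hPM x.2) hx (congrArg Subtype.val hxp)

theorem isSolvable (K : Subgroup G) [K.Normal] (hKM : K ≤ commutator G) {g : G}
    (hgM : g ∈ commutator G) (hgK : g ∉ K)
    (hcls : ∀ x, IsConj g x ↔ x ∈ commutator G ∧ x ∉ K)
    (hscal : ∀ z : G, (∀ b, ⁅z, b⁆ ∈ K) → z ∈ commutator G)
    (hvan : ∀ ψ : IrrCharacter G, (∃ x ∈ K, (ψ : G → ℂ) x ≠ (ψ : G → ℂ) 1) → (ψ : G → ℂ) g = 0) :
    Group.IsSolvable G := by
  classical
  set M : Subgroup G := commutator G with hM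
  let π := QuotientGroup.mk' K
  have hπ1 : ∀ x, π x = 1 ↔ x ∈ K := fun x => QuotientGroup.eq_one_iff x
  have hπg : π g ≠ 1 := fun h => hgK ((hπ1 g).1 h)
  -- a prime `p` with `g ^ p ∈ K`
  obtain ⟨p, hp, hpd⟩ := Nat.exists_prime_and_dvd (n := orderOf (π g))
    fun h => hπg (orderOf_eq_one_iff.1 h)
  haveI : Fact p.Prime := ⟨hp⟩
  have horder : ∀ x ∈ M, x ∉ K → orderOf (π x) = orderOf (π g) := fun x hx hxK => by
    obtain ⟨c, rfl⟩ := isConj_iff.1 ((hcls x).2 ⟨hx, hxK⟩)
    rw [map_mul, map_mul, map_inv]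
    exact (MulAut.conj (π c)).orderOf_eq (π g)
  have hop : orderOf (π g) = p := by
    have hpos := orderOf_pos (π g)
    have hy : g ^ (orderOf (π g) / p) ∉ K := fun h => by
      have h1 : π g ^ (orderOf (π g) / p) = 1 := by rw [← map_pow]; exact (hπ1 _).2 h
      exact absurd (Nat.le_of_dvd (Nat.div_pos (Nat.le_of_dvd hpos hpd) hp.pos)
        (orderOf_dvd_of_pow_eq_one h1)) (not_le.2 (Nat.div_lt_self hpos hp.one_lt))
    have h2 := horder _ (pow_mem hgM _) hy
    rw [map_pow, orderOf_pow_orderOf_div hpos.ne' hpd] at h2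
    exact h2.symm
  have hgp : g ^ p ∈ K := (hπ1 _).1 (by rw [map_pow, ← hop, pow_orderOf_eq_one])
  obtain ⟨v, hv⟩ : ∃ v, orderOf g = p ^ v := by
    set b := orderOf g / p ^ (orderOf g).factorization p
    refine ⟨(orderOf g).factorization p, ?_⟩
    have hbd : b ∣ orderOf g := Nat.ordCompl_dvd _ _
    have hbK : g ^ b ∉ K := fun h => hπg (by
      have h1 : π g ^ b = 1 := by rw [← map_pow]; exact (hπ1 _).2 h
      have h2 : π g ^ p = 1 := by rw [← hop, pow_orderOf_eq_one]
      have := pow_gcd_eq_one.2 ⟨h2, h1⟩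
      rwa [(Nat.coprime_ordCompl hp (orderOf_pos g).ne'), pow_one] at this)
    obtain ⟨c, hc⟩ := isConj_iff.1 ((hcls _).2 ⟨pow_mem hgM b, hbK⟩)
    have h3 : orderOf (g ^ b) = orderOf g := by rw [← hc]; exact (MulAut.conj c).orderOf_eq g
    rw [orderOf_pow' g (Nat.pos_of_dvd_of_pos hbd (orderOf_pos g)).ne', Nat.gcd_eq_right hbd] at h3
    have hb1 : b = 1 := by
      rcases (Nat.div_eq_self).1 h3 with h | h
      · exact absurd h (orderOf_pos g).ne'
      · exact h
    exact (Nat.eq_mul_of_div_eq_left (Nat.ordProj_dvd _ _) hb1).trans (one_mul _)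
  -- `M / K` is abelian
  let Mb : Subgroup (G ⧸ K) := M.map π
  have hMbmem : ∀ x, π x ∈ Mb → x ∈ M := fun x hx => by
    obtain ⟨y, hy, hxy⟩ := hx
    have := QuotientGroup.eq.1 hxy
    simpa using mul_mem hy (hKM this)
  have hMbp : IsPGroup p Mb := fun w => ⟨1, Subtype.ext (by
    obtain ⟨x, hx, e⟩ := w.2
    rw [pow_one, Subgroup.coe_pow, ← e, Subgroup.coe_one]
    by_cases hxK : x ∈ K
    · rw [(hπ1 x).2 hxK, one_pow]
    · rw [← hop, ← horder x hx hxK, pow_orderOf_eq_one])⟩
  have hab : ∀ x ∈ M, ∀ y ∈ M, ⁅x, y⁆ ∈ K := by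
    by_contra hcon
    push Not at hcon
    obtain ⟨x, hx, y, hy, hxy⟩ := hcon
    haveI : Group.IsNilpotent Mb := hMbp.isNilpotent
    haveI : Nontrivial Mb :=
      ⟨⟨π g, mem_map_of_mem _ hgM⟩, 1, fun h => hπg (congrArg Subtype.val h)⟩
    refine (Group.IsSolvable.commutator_lt_top_of_nontrivial Mb).ne (eq_top_iff.2 fun w _ => ?_)
    haveI : M.Normal := inferInstanceAs (commutator G).Normal
    haveI : Mb.Normal := Normal.map inferInstance _ (QuotientGroup.mk'_surjective K)
    have hsub : (commutator Mb).map Mb.subtype = ⁅Mb, Mb⁆ := Subgroup.map_subtype_commutator Mb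
    suffices h : (w : G ⧸ K) ∈ ⁅Mb, Mb⁆ by
      rw [← hsub] at h
      obtain ⟨w', hw', e⟩ := h
      exact (Subtype.ext e : w' = w) ▸ hw'
    obtain ⟨z, hz, e⟩ := w.2
    rw [← e]
    by_cases hzK : z ∈ K
    · rw [(hπ1 z).2 hzK]; exact one_mem _
    obtain ⟨c, hc⟩ := isConj_iff.1 (((hcls _).2
      ⟨commutator_mem_commutator (mem_top x) (mem_top y), hxy⟩).symm.trans ((hcls z).2 ⟨hz, hzK⟩))
    rw [← hc, map_mul, map_mul, map_inv, map_commutatorElement, conjugate_commutatorElement]
    exact commutator_mem_commutator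
      (‹Mb.Normal›.conj_mem _ (mem_map_of_mem _ hx) _) (‹Mb.Normal›.conj_mem _ (mem_map_of_mem _ hy) _)
  have hD2 : derivedSeries G 2 ≤ K := by
    rw [derivedSeries_succ, derivedSeries_one, commutator_le]
    exact hab
  -- the perfect radical
  obtain ⟨n, hn2, hn⟩ : ∃ n, 2 ≤ n ∧ derivedSeries G (n + 1) = derivedSeries G n := by
    by_contra hcon
    push Not at hcon
    have hdec : ∀ k, Nat.card (derivedSeries G (2 + k)) + k ≤ Nat.card (derivedSeries G 2) := by
      intro k
      induction k with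
      | zero => simp
      | succ k ih =>
        have hlt : derivedSeries G (2 + k + 1) < derivedSeries G (2 + k) :=
          lt_of_le_of_ne (derivedSeries_antitone G (Nat.le_succ _)) (hcon _ (by omega))
        have h1 := Set.ncard_lt_ncard (SetLike.coe_ssubset_coe.2 hlt) (Set.toFinite _)
        rw [← Nat.card_coe_set_eq, ← Nat.card_coe_set_eq] at h1
        change Nat.card (derivedSeries G (2 + k + 1)) < Nat.card (derivedSeries G (2 + k)) at h1
        rw [show 2 + (k + 1) = 2 + k + 1 by omega]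
        omega
    have := hdec (Nat.card (derivedSeries G 2))
    have := Nat.card_pos (α := derivedSeries G (2 + Nat.card (derivedSeries G 2)))
    omega
  refine ⟨⟨n, ?_⟩⟩
  set X : Subgroup G := derivedSeries G n with hX
  haveI : X.Normal := derivedSeries_normal G n
  have hXK : X ≤ K := (derivedSeries_antitone G hn2).trans hD2
  have hperf : commutator X = ⊤ := by
    refine map_injective (f := X.subtype) X.subtype_injective ?_
    rw [Subgroup.map_subtype_commutator, ← MonoidHom.range_eq_map, X.range_subtype]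
    exact hn
  have hgp' : g ^ p ^ v = 1 := by rw [← hv, pow_orderOf_eq_one]
  obtain ⟨hcop, hfix⟩ := coprime_and_fpf X hperf g hgp'
    (fun x hx => (hcls _).2 ⟨mul_mem (hKM (hXK hx)) hgM, fun h => hgK (by
      simpa using mul_mem (inv_mem (hXK hx)) h)⟩)
    (fun ψ ⟨x, hx, hne⟩ => hvan ψ ⟨x, hXK hx, hne⟩)
  let φ : X ≃* X := MulAut.conjNormal g
  have hφ : MonoidHom.FixedPointFree φ := fun x hx =>
    Subtype.ext (hfix x x.2 (congrArg Subtype.val hx))
  have hit : ∀ (i : ℕ) (x : X), (((φ : X → X)^[i] x : X) : G) = g ^ i * x * (g ^ i)⁻¹ := by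
    intro i
    induction i with
    | zero => intro x; simp
    | succ i ih =>
      intro x
      rw [Function.iterate_succ_apply']
      show g * _ * g⁻¹ = _
      rw [ih, pow_succ']
      group
  have hsubs : Subsingleton X := by
    rcases small_order K hKM hgM hgK hcls hscal hgp hv hab with h | ⟨rfl, h⟩
    · haveI := CfsgLib.PGroup.isNilpotent_of_fixedPointFree hp X φ hφ fun x =>
        Subtype.ext (by rw [hit, h]; simp)
      by_contra hns
      haveI := not_subsingleton_iff_nontrivial.1 hns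
      exact (Group.IsSolvable.commutator_lt_top_of_nontrivial X).ne hperf
    · refine subsingleton_of_fpf_four φ hφ (fun x => Subtype.ext ?_)
        (Nat.not_even_iff_odd.1 fun he => hcop (even_iff_two_dvd.1 he)) hperf
      show (((φ : X → X)^[4] x : X) : G) = x
      rw [hit, h]; simp
  exact (eq_bot_iff_forall X).2 fun x hx =>
    congrArg Subtype.val (Subsingleton.elim (⟨x, hx⟩ : X) 1)

end CfsgLib.Char.OneNonzero
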